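import Mathlib
import Cfsg.Agent.Lib.Helper11.KS12.FFMin

/-!
Kurzweil–Stellmacher chapter 12 cluster, statement S2944 (helper54): existence of a
"transvection on `W`".

For `L ∈ jOvergroups T`, `V = Ω₁(Z(O₂(L)))`, and a subgroup `W ≤ V` normal in `L` that is not
centralized by `J(T)`: there is a 2-element `t ∈ L` with `t² ∈ C_L(V)`, `t ∉ C(W)` and
`[V, t] ≤ W`.  It comes from the fact (helper11's FF library) that the image of `J(L)` in the
holomorph of `V` is generated by transvections.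
-/

set_option autoImplicit false

namespace Cfsg.Agent.Lib.Helper54.KS12

open scoped commutatorElement
open Cfsg Cfsg.Agent.Lib.Helper11 Cfsg.Agent.Lib.Helper11.FFT Cfsg.Agent.Lib.Helper11.FF
  Cfsg.Agent.Lib.Helper11.TFS Cfsg.Agent.Lib.Helper2.KS12

section X

variable {X : Type*} [Group X] [Finite X]

/-- In a solvable group `X` acting on a normal elementary abelian 2-subgroup `V` with
`O₂(X / C_X(V)) = 1`: if `J(X)` does not centralize the normal subgroup `W ≤ V`, then some
`x ∈ J(X)` with `x² ∈ C_X(V)` does not centralize `W` and satisfies `[V, x] ≤ W`. -/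
theorem x_exists_transv (V : Subgroup X) [V.Normal] (hV : IsElementaryAbelian 2 V)
    (hsol : IsPSolvable 2 X) (hOp : pCore 2 ↥(psi V).range = ⊥)
    (W : Subgroup X) (hWV : W ≤ V) (hWn : ∀ x : X, ∀ w ∈ W, x * w * x⁻¹ ∈ W)
    (hJW : ¬ thompsonSubgroup 2 X ≤ Subgroup.centralizer (W : Set X)) :
    ∃ x : X, x * x ∈ Subgroup.centralizer (V : Set X) ∧
      x ∉ Subgroup.centralizer (W : Set X) ∧ ∀ v ∈ V, x * v * x⁻¹ * v⁻¹ ∈ W := by
  have : Fact (Nat.Prime 2) := ⟨Nat.prime_two⟩
  have hYc : (thompsonSubgroup 2 X).Characteristic := (Cfsg.Agent.S0602.result (p := 2)).1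
  have hYn : (thompsonSubgroup 2 X).Normal := Subgroup.normal_of_characteristic _
  obtain ⟨hs, hCK⟩ := setup_map_normal V hV hsol hOp (thompsonSubgroup 2 X)
  have hS3 : (thompsonSubgroup 2 X).map (psi V) = ⨆ A : {A : Subgroup (Hol V) //
      A ≤ (thompsonSubgroup 2 X).map (psi V) ∧ IsBestOffenderOn 2 (VV V) A},
        (A : Subgroup (Hol V)) := by
    apply le_antisymm
    · rw [Subgroup.map_le_iff_le_comap]
      unfold Cfsg.thompsonSubgroup
      apply sSup_le
      intro A hA
      rw [← Subgroup.map_le_iff_le_comap]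
      exact le_iSup (fun A : {A : Subgroup (Hol V) //
          A ≤ (thompsonSubgroup 2 X).map (psi V) ∧ IsBestOffenderOn 2 (VV V) A} =>
            (A : Subgroup (Hol V)))
        ⟨A.map (psi V), Subgroup.map_mono (Cfsg.Agent.Lib.Helper10.le_thompsonSubgroup hA),
          bestOffender_map V (Cfsg.Agent.Lib.Helper10.isBestOffenderOn_of_mem_max V A hV hA)⟩
    · exact iSup_le (fun A => A.2.1)
  -- the centralizer of the copy of `W`
  obtain ⟨Ws, hWs⟩ : ∃ Ws : Set (Hol V), Ws =
      {y | ∃ w : ↥V, (w : X) ∈ W ∧ y = SemidirectProduct.inl w} := ⟨_, rfl⟩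
  have hex : ∃ b, IsTransv 2 (VV V) ((thompsonSubgroup 2 X).map (psi V)) b ∧
      b ∉ Subgroup.centralizer Ws := by
    by_contra hcon
    push Not at hcon
    apply hJW
    have hle := le_of_transv_mem hs hCK hS3 (Subgroup.centralizer Ws) hcon
    intro x hx
    rw [Subgroup.mem_centralizer_iff]
    intro w hw
    have h1 : psi V x ∈ Subgroup.centralizer Ws := hle ⟨x, hx, rfl⟩
    have h2 := Subgroup.mem_centralizer_iff.mp h1 (SemidirectProduct.inl ⟨w, hWV hw⟩)
      (by rw [hWs]; exact ⟨⟨w, hWV hw⟩, hw, rfl⟩)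
    exact ((psi_commute_iff V x ⟨w, hWV hw⟩).mp h2.symm).symm
  obtain ⟨b, hb, hbW⟩ := hex
  obtain ⟨x, hx, rfl⟩ := hb.mem
  refine ⟨x, ?_, ?_, ?_⟩
  · rw [← psi_ker, MonoidHom.mem_ker, map_mul, ← pow_two]
    exact hb.pow
  · intro hxc
    apply hbW
    rw [Subgroup.mem_centralizer_iff]
    intro y hy
    rw [hWs] at hy
    obtain ⟨w, hw, rfl⟩ := hy
    have h1 := Subgroup.mem_centralizer_iff.mp hxc (w : X) hw
    exact ((psi_commute_iff V x w).mpr h1.symm).symm
  · -- `[V, x]` has order 2 and meets `W` non-trivially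
    have hconj : ∀ v : ↥V, ((MulAut.conjNormal x v : ↥V) : X) = x * (v : X) * x⁻¹ := by
      intro v
      rw [MulAut.conjNormal_apply]
    have hmem : ∀ v : ↥V, (SemidirectProduct.inl (MulAut.conjNormal x v * v⁻¹) : Hol V) ∈
        ctr (VV V) (psi V x) := by
      intro v
      have h1 : ⁅psi V x, (SemidirectProduct.inl v : Hol V)⁆ ∈ ctr (VV V) (psi V x) :=
        comm_mem_ctr ⟨v, rfl⟩
      have h2 : ⁅psi V x, (SemidirectProduct.inl v : Hol V)⁆ =
          SemidirectProduct.inl (MulAut.conjNormal x v * v⁻¹) := by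
        rw [commutatorElement_def, psi_conj, map_mul, map_inv]
      rwa [h2] at h1
    -- an element of `W` moved by `x`
    have hnc : ∃ w₀ : ↥V, (w₀ : X) ∈ W ∧ MulAut.conjNormal x w₀ * w₀⁻¹ ≠ 1 := by
      by_contra hcon
      push Not at hcon
      apply hbW
      rw [Subgroup.mem_centralizer_iff]
      intro y hy
      rw [hWs] at hy
      obtain ⟨w, hw, rfl⟩ := hy
      have h1 := hcon w hw
      have h2 : (MulAut.conjNormal x w : ↥V) = w := by
        have := mul_inv_eq_one.mp h1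
        exact this
      have h3 := psi_conj V x w
      rw [h2] at h3
      calc (SemidirectProduct.inl w : Hol V) * psi V x
          = psi V x * SemidirectProduct.inl w * (psi V x)⁻¹ * psi V x := by rw [h3]
        _ = psi V x * SemidirectProduct.inl w := by group
    obtain ⟨w₀, hw₀, hw₀1⟩ := hnc
    have hcard := hb.card
    have hfin : Finite ↥(ctr (VV V) (psi V x)) := inferInstance
    intro v hv
    have key : MulAut.conjNormal x (⟨v, hv⟩ : ↥V) * (⟨v, hv⟩ : ↥V)⁻¹ = 1 ∨
        MulAut.conjNormal x (⟨v, hv⟩ : ↥V) * (⟨v, hv⟩ : ↥V)⁻¹ =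
          MulAut.conjNormal x w₀ * w₀⁻¹ := by
      by_contra hcon
      push Not at hcon
      obtain ⟨hc1, hc2⟩ := hcon
      have h3 : 3 ≤ Nat.card ↥(ctr (VV V) (psi V x)) := by
        classical
        let _ : Fintype ↥(ctr (VV V) (psi V x)) := Fintype.ofFinite _
        rw [Nat.card_eq_fintype_card]
        let e1 : ↥(ctr (VV V) (psi V x)) := ⟨_, hmem ⟨v, hv⟩⟩
        let e2 : ↥(ctr (VV V) (psi V x)) := ⟨_, hmem w₀⟩
        have h12 : e1 ≠ e2 := by
          intro h
          exact hc2 (SemidirectProduct.inl_injective (congrArg Subtype.val h))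
        have h11 : e1 ≠ 1 := by
          intro h
          apply hc1
          have := congrArg Subtype.val h
          exact SemidirectProduct.inl_injective (by rw [map_one]; exact this)
        have h21 : e2 ≠ 1 := by
          intro h
          apply hw₀1
          have := congrArg Subtype.val h
          exact SemidirectProduct.inl_injective (by rw [map_one]; exact this)
        have hsub : ({1, e1, e2} : Finset ↥(ctr (VV V) (psi V x))) ⊆ Finset.univ :=
          Finset.subset_univ _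
        have hc3 : ({1, e1, e2} : Finset ↥(ctr (VV V) (psi V x))).card = 3 := by
          rw [Finset.card_insert_of_notMem, Finset.card_insert_of_notMem, Finset.card_singleton]
          · simpa using h12
          · simp only [Finset.mem_insert, Finset.mem_singleton]
            rintro (h | h)
            · exact h11 h.symm
            · exact h21 h.symm
        have := Finset.card_le_card hsub
        rw [hc3] at this
        exact this
      omega
    have hW0 : ((MulAut.conjNormal x w₀ * w₀⁻¹ : ↥V) : X) ∈ W := by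
      rw [Subgroup.coe_mul, hconj, Subgroup.coe_inv]
      exact W.mul_mem (hWn x _ hw₀) (W.inv_mem hw₀)
    have hval : x * v * x⁻¹ * v⁻¹ =
        ((MulAut.conjNormal x (⟨v, hv⟩ : ↥V) * (⟨v, hv⟩ : ↥V)⁻¹ : ↥V) : X) := by
      rw [Subgroup.coe_mul, hconj, Subgroup.coe_inv]
    rw [hval]
    rcases key with h | h
    · rw [h]; exact W.one_mem
    · rw [h]; exact hW0

end X

section G

variable {G : Type*} [Group G] [Finite G]

/-- Some odd power of `x` is a 2-element. -/
theorem exists_odd_pow_two_elt (x : G) : ∃ j n : ℕ, (x ^ (2 * j + 1)) ^ (2 ^ n) = 1 := by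
  have h0 : orderOf x ≠ 0 := (orderOf_pos x).ne'
  obtain ⟨n, m, hm, hnm⟩ := Nat.exists_eq_two_pow_mul_odd h0
  obtain ⟨j, rfl⟩ := hm
  refine ⟨j, n, ?_⟩
  rw [← pow_mul, mul_comm, ← hnm, pow_orderOf_eq_one]

/-- **Transvection on `W`.** For `L ∈ jOvergroups T` and a subgroup `W ≤ V_L` normal in `L` and
not centralized by `J(T)`: a 2-element `t ∈ L` with `t² ∈ C_L(V_L)`, not centralizing `W`, with
`[V_L, t] ≤ W`. -/
theorem exists_transv (hN : ∀ N : Subgroup G, Cfsg.IsTwoLocal N → Group.IsSolvable ↥N)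
    (hZ : ∀ S : Sylow 2 G, Subgroup.centralizer (Cfsg.omegaCenterOf (S : Subgroup G) : Set G) ≤
      Subgroup.normalizer ((S : Subgroup G) : Set G))
    {T L : Subgroup G} (hT1 : T ≠ ⊥) (hLT : L ∈ jOvergroups T)
    (W : Subgroup G) (hWV : W ≤ VL L) (hLW : L ≤ Subgroup.normalizer (W : Set G))
    (hJW : ¬ thompsonSubgroupOf 2 T ≤ Subgroup.centralizer (W : Set G)) :
    ∃ t ∈ L, (∃ n : ℕ, t ^ (2 ^ n) = 1) ∧ t * t ∈ CL L ∧
      t ∉ Subgroup.centralizer (W : Set G) ∧ ∀ v ∈ VL L, t * v * t⁻¹ * v⁻¹ ∈ W := by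
  have : Fact (Nat.Prime 2) := ⟨Nat.prime_two⟩
  obtain ⟨hT, -, hCQ⟩ := hLT
  have hsolL : Group.IsSolvable ↥L := isSolvable_of_mem_jOvergroups hN hT1 hCQ
  have hsol : IsPSolvable 2 ↥L := Cfsg.Agent.Lib.Helper79.isPSolvable_of_isSolvable 2 inferInstance
  have hVn : ((VL L).subgroupOf L).Normal :=
    (Subgroup.normal_subgroupOf_iff_le_normalizer (VL_le L)).mpr (le_normalizer_VL L)
  have hV : IsElementaryAbelian 2 ((VL L).subgroupOf L) :=
    Cfsg.Agent.Lib.Helper10.isElementaryAbelian_subgroupOf (VL_elemAb L) L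
  have hOp := pCore_range_eq_bot ((VL L).subgroupOf L)
    (pCore_quotient_centralizer_VL_eq_bot hZ hT hCQ)
  have hWL : W ≤ L := hWV.trans (VL_le L)
  have hWV' : W.subgroupOf L ≤ (VL L).subgroupOf L := Subgroup.comap_mono hWV
  have hWn : ∀ x : ↥L, ∀ w ∈ W.subgroupOf L, x * w * x⁻¹ ∈ W.subgroupOf L := by
    intro x w hw
    rw [Subgroup.mem_subgroupOf] at hw ⊢
    exact (Subgroup.mem_normalizer_iff.mp (hLW x.2) _).mp hw
  have hJW' : ¬ thompsonSubgroup 2 ↥L ≤
      Subgroup.centralizer ((W.subgroupOf L : Subgroup ↥L) : Set ↥L) := by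
    intro hle
    apply hJW
    refine (Cfsg.Agent.Lib.Helper11.KS12.thompsonSubgroupOf_le_of_isSylowTwoIn hT).trans ?_
    rintro _ ⟨y, hy, rfl⟩
    rw [Subgroup.mem_centralizer_iff]
    intro w hw
    have h1 := Subgroup.mem_centralizer_iff.mp (hle hy) ⟨w, hWL hw⟩
      (Subgroup.mem_subgroupOf.mpr hw)
    exact congrArg Subtype.val h1
  obtain ⟨x, hx2, hxW, hxV⟩ := x_exists_transv ((VL L).subgroupOf L) hV hsol hOp
    (W.subgroupOf L) hWV' hWn hJW'
  have hxx : (x : G) * (x : G) ∈ CL L := (mem_centralizer_VL_subgroupOf (x * x)).mp hx2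
  obtain ⟨j, n, hjn⟩ := exists_odd_pow_two_elt (x : G)
  have hc : ((x : G) * (x : G)) ^ j ∈ CL L := (CL L).pow_mem hxx j
  have ht : (x : G) ^ (2 * j + 1) = ((x : G) * (x : G)) ^ j * (x : G) := by
    rw [pow_succ, pow_mul, pow_two]
  have hcW : ∀ c ∈ CL L, c ∈ Subgroup.centralizer (W : Set G) := fun c hc =>
    Subgroup.centralizer_le hWV (CL_le_centralizer L hc)
  refine ⟨(x : G) ^ (2 * j + 1), L.pow_mem x.2 _, ⟨n, hjn⟩, ?_, ?_, ?_⟩
  · have h1 : (x : G) ^ (2 * j + 1) * (x : G) ^ (2 * j + 1) =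
        ((x : G) * (x : G)) ^ (2 * j + 1) := by
      rw [← pow_two, ← pow_two, ← pow_mul, ← pow_mul, mul_comm]
    rw [h1]
    exact (CL L).pow_mem hxx _
  · intro htW
    apply hxW
    have h1 : (x : G) ∈ Subgroup.centralizer (W : Set G) := by
      have h2 : (x : G) = (((x : G) * (x : G)) ^ j)⁻¹ * (x : G) ^ (2 * j + 1) := by
        rw [ht]; group
      rw [h2]
      exact Subgroup.mul_mem _ (Subgroup.inv_mem _ (hcW _ hc)) htW
    rw [Subgroup.mem_centralizer_iff]
    intro w hw
    apply Subtype.ext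
    exact Subgroup.mem_centralizer_iff.mp h1 (w : G) (Subgroup.mem_subgroupOf.mp hw)
  · intro v hv
    have h1 := hxV ⟨v, VL_le L hv⟩ (Subgroup.mem_subgroupOf.mpr hv)
    rw [Subgroup.mem_subgroupOf] at h1
    have h2 : (x : G) * v * (x : G)⁻¹ ∈ VL L :=
      (Subgroup.mem_normalizer_iff.mp (le_normalizer_VL L x.2) v).mp hv
    have h3 := Subgroup.mem_centralizer_iff.mp (CL_le_centralizer L hc) _ h2
    have h4 : (x : G) ^ (2 * j + 1) * v * ((x : G) ^ (2 * j + 1))⁻¹ * v⁻¹ =
        (x : G) * v * (x : G)⁻¹ * v⁻¹ := by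
      rw [ht]
      calc ((x : G) * (x : G)) ^ j * (x : G) * v * (((x : G) * (x : G)) ^ j * (x : G))⁻¹ * v⁻¹
          = (((x : G) * (x : G)) ^ j * ((x : G) * v * (x : G)⁻¹)) *
              (((x : G) * (x : G)) ^ j)⁻¹ * v⁻¹ := by group
        _ = (((x : G) * v * (x : G)⁻¹) * ((x : G) * (x : G)) ^ j) *
              (((x : G) * (x : G)) ^ j)⁻¹ * v⁻¹ := by rw [← h3]
        _ = (x : G) * v * (x : G)⁻¹ * v⁻¹ := by group
    rw [h4]
    simpa using h1

end G

end Cfsg.Agent.Lib.Helper54.KS12
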