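import Mathlib
import Cfsg.Agent.Lib.Helper54.KS12.S2944Key
import Cfsg.Agent.Lib.Helper54.KS12.Transv
import Cfsg.Agent.Lib.Helper71.JC.JCInst
import Cfsg.Agent.Lib.Helper81.KS12.JCompConj
import Cfsg.Agent.Lib.Helper85.KS12.JSylow
import Cfsg.Agent.Lib.Helper2.KS12.PZ
import Cfsg.Agent.S2942

/-!
Kurzweil–Stellmacher chapter 12 cluster, statement S2944 (helper54), part 1:
for `K ∈ jComponentsZero T`, `N_G(W_K) ≤ N_G(K)`.
-/

set_option autoImplicit false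

namespace Cfsg.Agent.Lib.Helper54.KS12

open scoped commutatorElement
open Cfsg Cfsg.Agent.Lib.Helper71.JC Cfsg.Agent.Lib.Helper2.KS12

universe u
variable {G : Type u} [Group G]

/-! ### general lemmas -/

/-- In a group of characteristic 2 type, `C_G(O₂(N)) ≤ O₂(N)` for the normalizer `N` of a
non-trivial 2-subgroup. -/
theorem centralizer_pCoreOf_normalizer_le (hL : IsCharacteristicTwoType G) {P : Subgroup G}
    (hP2 : IsPGroup 2 P) (hPne : P ≠ ⊥) :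
    Subgroup.centralizer (pCoreOf 2 (Subgroup.normalizer (P : Set G)) : Set G) ≤
      pCoreOf 2 (Subgroup.normalizer (P : Set G)) := by
  have hchar := hL.2 P hP2 hPne
  unfold IsOfCharacteristicTwo at hchar
  have hPQ : P ≤ pCoreOf 2 (Subgroup.normalizer (P : Set G)) :=
    Cfsg.Agent.Lib.Helper85.KS12.le_pCoreOf_of_normal hP2 Subgroup.le_normalizer le_rfl
  intro g hg
  have hgN : g ∈ Subgroup.normalizer (P : Set G) := by
    rw [Subgroup.mem_normalizer_iff]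
    intro x
    constructor
    · intro hx
      have h0 := hg x (hPQ hx)
      have e : g * x * g⁻¹ = x := by rw [← h0]; group
      rw [e]; exact hx
    · intro hx
      have h0 := hg _ (hPQ hx)
      have e : x = g * x * g⁻¹ := by
        have h00 : g * x = g * (g * x * g⁻¹) := by rw [← h0]; group
        exact mul_left_cancel h00
      rw [e]; exact hx
  have h1 : (⟨g, hgN⟩ : ↥(Subgroup.normalizer (P : Set G))) ∈
      Subgroup.centralizer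
        (pCore 2 ↥(Subgroup.normalizer (P : Set G)) : Set ↥(Subgroup.normalizer (P : Set G))) := by
    intro y hy
    apply Subtype.ext
    exact hg y.1 ⟨y, hy, rfl⟩
  exact ⟨⟨g, hgN⟩, hchar h1, rfl⟩

/-- `O₂` of a subnormal subgroup of `L` lies in `O₂(L)`. -/
theorem pCoreOf_le_pCoreOf_of_isSubnormal {K L : Subgroup G} (hKL : K ≤ L)
    (h : (K.subgroupOf L).IsSubnormal) : pCoreOf 2 K ≤ pCoreOf 2 L := by
  have : Fact (Nat.Prime 2) := ⟨Nat.prime_two⟩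
  have hAK : pCoreOf 2 K ≤ K := Cfsg.Agent.Lib.Helper47.pCoreOf_le 2 K
  have hKA : K ≤ Subgroup.normalizer (pCoreOf 2 K : Set G) :=
    Cfsg.Agent.Lib.Helper47.le_normalizer_pCoreOf 2 K
  have hA2 : IsPGroup 2 (pCoreOf 2 K) := Cfsg.Agent.Lib.Helper47.pCoreOf_isPGroup 2 K
  have hle : (pCoreOf 2 K).subgroupOf L ≤ K.subgroupOf L := Subgroup.comap_mono hAK
  have hnorm : (((pCoreOf 2 K).subgroupOf L).subgroupOf (K.subgroupOf L)).Normal := by
    constructor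
    intro n hn g
    rw [Subgroup.mem_subgroupOf] at hn ⊢
    rw [Subgroup.mem_subgroupOf] at hn ⊢
    have hg : ((g : ↥L) : G) ∈ K := Subgroup.mem_subgroupOf.mp g.2
    have := (Subgroup.mem_normalizer_iff.mp (hKA hg) _).mp hn
    simpa using this
  have hsub : ((pCoreOf 2 K).subgroupOf L).IsSubnormal :=
    Subgroup.IsSubnormal.step _ _ hle h hnorm
  have h1 := Cfsg.Agent.Lib.Helper47.le_pCore_of_isSubnormal_of_isPGroup hsub
    (hA2.comap_of_injective L.subtype L.subtype_injective)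
  intro a ha
  exact ⟨⟨a, hKL (hAK ha)⟩, h1 (Subgroup.mem_subgroupOf.mpr ha), rfl⟩

theorem comm_sq_identity {x y z : G} (hxy : x * y = y * x) (hxz : x * z = z * x)
    (hyz : y * z = z * y) (hx : x * x = 1) (hy : y * y = 1) (hz : z * z = 1) :
    x * y * x * z * x * y * z * y = x * y := by
  calc x * y * x * z * x * y * z * y
      = x * (y * x) * z * x * y * z * y := by group
    _ = x * (x * y) * z * x * y * z * y := by rw [← hxy]
    _ = (x * x) * y * z * x * y * z * y := by group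
    _ = y * z * x * y * z * y := by rw [hx, one_mul]
    _ = y * z * (x * y) * z * y := by group
    _ = y * z * (y * x) * z * y := by rw [hxy]
    _ = y * (z * y) * x * z * y := by group
    _ = y * (y * z) * x * z * y := by rw [← hyz]
    _ = (y * y) * z * x * z * y := by group
    _ = z * x * z * y := by rw [hy, one_mul]
    _ = z * (x * z) * y := by group
    _ = z * (z * x) * y := by rw [hxz]
    _ = (z * z) * x * y := by group
    _ = x * y := by rw [hz, one_mul]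

/-! ### the configuration `K ≤ N`, `Q` a normal 2-subgroup of `N` -/

/-- A 2-group `Q ≥ W` normalized by `K` and normalizing `W` centralizes `W`. -/
theorem le_centralizer_W [Finite G] {K J R W S₀ Q : Subgroup G} (c : Cfg K J R W S₀)
    (hQ2 : IsPGroup 2 Q) (hWQ : W ≤ Q) (hQW : Q ≤ Subgroup.normalizer (W : Set G))
    (hKQ : K ≤ Subgroup.normalizer (Q : Set G)) : Q ≤ Subgroup.centralizer (W : Set G) := by
  have : Fact (Nat.Prime 2) := ⟨Nat.prime_two⟩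
  obtain ⟨w₀, hw₀, hw₀1, hw₀c⟩ :=
    Cfsg.Agent.Lib.Helper53.exists_mem_center_of_normal_subgroup hQ2 hWQ hQW c.W_ne_bot
  obtain ⟨d, hd, hdR⟩ := c.exists_d
  have hdW : d ∈ Subgroup.normalizer (W : Set G) := c.hKW hd
  have hw₁ : d * w₀ * d⁻¹ ∈ W := conj_mem_of_mem_normalizer hdW hw₀
  have hw₁1 : d * w₀ * d⁻¹ ≠ 1 := by
    intro h
    apply hw₀1
    have : w₀ = d⁻¹ * (d * w₀ * d⁻¹) * d := by group
    rw [this, h]; group
  have hw₁0 : d * w₀ * d⁻¹ ≠ w₀ := fun h => hw₀1 (c.hfp d hd hdR w₀ hw₀ h)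
  have hw₁c : ∀ g ∈ Q, g * (d * w₀ * d⁻¹) = (d * w₀ * d⁻¹) * g := by
    intro g hg
    have hg' : d⁻¹ * g * d ∈ Q := conj_inv_mem_of_mem_normalizer (hKQ hd) hg
    have h1 := hw₀c _ hg'
    calc g * (d * w₀ * d⁻¹) = d * ((d⁻¹ * g * d) * w₀) * d⁻¹ := by group
      _ = d * (w₀ * (d⁻¹ * g * d)) * d⁻¹ := by rw [h1]
      _ = (d * w₀ * d⁻¹) * g := by group
  have hw₂ : w₀ * (d * w₀ * d⁻¹) ∈ W := W.mul_mem hw₀ hw₁
  have hw₂1 : w₀ * (d * w₀ * d⁻¹) ≠ 1 := by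
    intro h
    apply hw₁0
    have h2 : d * w₀ * d⁻¹ = w₀⁻¹ := (inv_eq_of_mul_eq_one_right h).symm
    rw [h2, inv_eq_self_of_sq (c.hW2 w₀ hw₀)]
  have hw₂0 : w₀ * (d * w₀ * d⁻¹) ≠ w₀ := by
    intro h
    apply hw₁1
    have : w₀ * (d * w₀ * d⁻¹) = w₀ * 1 := by rw [h, mul_one]
    exact mul_left_cancel this
  have hw₂w₁ : w₀ * (d * w₀ * d⁻¹) ≠ d * w₀ * d⁻¹ := by
    intro h
    apply hw₀1
    have : w₀ * (d * w₀ * d⁻¹) = 1 * (d * w₀ * d⁻¹) := by rw [h, one_mul]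
    exact mul_right_cancel this
  have henum := four_enum c.hW4 hw₀ hw₁ hw₂ hw₀1 hw₁1 hw₂1 (Ne.symm hw₁0) (Ne.symm hw₂0)
    (Ne.symm hw₂w₁)
  intro g hg
  rw [Subgroup.mem_centralizer_iff]
  intro w hw
  rcases henum w hw with h | h | h | h
  · rw [h, one_mul, mul_one]
  · rw [h]; exact (hw₀c g hg).symm
  · rw [h]; exact (hw₁c g hg).symm
  · rw [h]
    calc w₀ * (d * w₀ * d⁻¹) * g = w₀ * ((d * w₀ * d⁻¹) * g) := by group
      _ = w₀ * (g * (d * w₀ * d⁻¹)) := by rw [hw₁c g hg]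
      _ = (w₀ * g) * (d * w₀ * d⁻¹) := by group
      _ = (g * w₀) * (d * w₀ * d⁻¹) := by rw [hw₀c g hg]
      _ = g * (w₀ * (d * w₀ * d⁻¹)) := by group

/-- `[V, K] ≤ W` for an elementary abelian subgroup `V ≤ Z(Q)` normalized by `K`, where `Q` is a
2-group with `O₂(K) ≤ Q`, `Q ∩ K ≤ O₂(K)` and `Q ≤ N(K)`. -/
theorem comm_V_mem_W {K J R W S₀ Q V : Subgroup G} (c : Cfg K J R W S₀)
    (hW : W = ⁅omegaCenterOf R, K⁆) (hRQ : R ≤ Q) (hVQ : V ≤ Q)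
    (hVc : ∀ v ∈ V, ∀ q ∈ Q, q * v = v * q) (hV2 : ∀ v ∈ V, v * v = 1)
    (hVcomm : ∀ v ∈ V, ∀ v' ∈ V, v * v' = v' * v)
    (hKV : K ≤ Subgroup.normalizer (V : Set G)) (hQK : Q ≤ Subgroup.normalizer (K : Set G))
    (hQKR : Q ⊓ K ≤ R) : ∀ k ∈ K, ∀ v ∈ V, k * v * k⁻¹ * v⁻¹ ∈ W := by
  -- step 1: `[v, k] ∈ Ω₁(Z(R))`
  have hU : ∀ k ∈ K, ∀ v ∈ V, k * v * k⁻¹ * v⁻¹ ∈ omegaCenterOf R := by
    intro k hk v hv
    have hxV : k * v * k⁻¹ * v⁻¹ ∈ V :=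
      V.mul_mem (conj_mem_of_mem_normalizer (hKV hk) hv) (V.inv_mem hv)
    have hxK : k * v * k⁻¹ * v⁻¹ ∈ K := by
      have h1 : k * v * k⁻¹ * v⁻¹ = k * (v * k⁻¹ * v⁻¹) := by group
      rw [h1]
      exact K.mul_mem hk (conj_mem_of_mem_normalizer (hQK (hVQ hv)) (K.inv_mem hk))
    refine mem_omegaCenterOf (hQKR ⟨hVQ hxV, hxK⟩) ?_ (by rw [pow_two]; exact hV2 _ hxV)
    rw [Subgroup.mem_centralizer_iff]
    intro r hr
    exact hVc _ hxV r (hRQ hr)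
  obtain ⟨d, hd, hdR⟩ := c.exists_d
  obtain ⟨hd3, hdec⟩ := q3 c.hRK c.hKR c.hidx hd hdR
  have hVinv : ∀ v ∈ V, v⁻¹ = v := fun v hv => inv_eq_self_of_sq (hV2 v hv)
  -- step 2: `[v, d] ∈ W`
  have hstep2 : ∀ v ∈ V, d * v * d⁻¹ * v⁻¹ ∈ W := by
    intro v hv
    have ha₁ : d * v * d⁻¹ ∈ V := conj_mem_of_mem_normalizer (hKV hd) hv
    have ha₂ : (d * d) * v * (d * d)⁻¹ ∈ V :=
      conj_mem_of_mem_normalizer (hKV (K.mul_mem hd hd)) hv
    have h3 : (d * d * d) * v * (d * d * d)⁻¹ = v := by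
      have hR : d * d * d ∈ R := by rw [← pow_three']; exact hd3
      have := hVc v hv _ (hRQ hR)
      rw [this]; group
    have hxU := hU d hd v hv
    have hxV : d * v * d⁻¹ * v⁻¹ ∈ V := V.mul_mem ha₁ (V.inv_mem hv)
    have hxinv : (d * v * d⁻¹ * v⁻¹)⁻¹ = v * (d * v * d⁻¹) := by
      rw [mul_inv_rev, inv_inv, hVinv _ ha₁]
    have hc1 : ⁅d * v * d⁻¹ * v⁻¹, d⁆ ∈ W := by
      rw [hW]; exact Subgroup.commutator_mem_commutator hxU hd
    have hc2 : ⁅d * v * d⁻¹ * v⁻¹, d * d⁆ ∈ W := by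
      rw [hW]; exact Subgroup.commutator_mem_commutator hxU (K.mul_mem hd hd)
    have e2 : d * (d * v * d⁻¹ * v⁻¹)⁻¹ * d⁻¹ = (d * v * d⁻¹) * ((d * d) * v * (d * d)⁻¹) := by
      rw [hxinv]; group
    have e3 : (d * d) * (d * v * d⁻¹ * v⁻¹)⁻¹ * (d * d)⁻¹ = ((d * d) * v * (d * d)⁻¹) * v := by
      rw [hxinv]
      calc (d * d) * (v * (d * v * d⁻¹)) * (d * d)⁻¹
          = ((d * d) * v * (d * d)⁻¹) * ((d * d * d) * v * (d * d * d)⁻¹) := by group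
        _ = _ := by rw [h3]
    have hprod : ⁅d * v * d⁻¹ * v⁻¹, d⁆ * ⁅d * v * d⁻¹ * v⁻¹, d * d⁆ = d * v * d⁻¹ * v⁻¹ := by
      have e0 : ⁅d * v * d⁻¹ * v⁻¹, d⁆ * ⁅d * v * d⁻¹ * v⁻¹, d * d⁆ =
          (d * v * d⁻¹ * v⁻¹) * (d * (d * v * d⁻¹ * v⁻¹)⁻¹ * d⁻¹) * (d * v * d⁻¹ * v⁻¹) *
            ((d * d) * (d * v * d⁻¹ * v⁻¹)⁻¹ * (d * d)⁻¹) := by
        simp only [commutatorElement_def]; group
      rw [e0, e2, e3, hVinv v hv]
      have key := comm_sq_identity (x := d * v * d⁻¹) (y := v) (z := (d * d) * v * (d * d)⁻¹)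
        (hVcomm _ ha₁ _ hv) (hVcomm _ ha₁ _ ha₂) (hVcomm _ hv _ ha₂) (hV2 _ ha₁) (hV2 _ hv)
        (hV2 _ ha₂)
      calc d * v * d⁻¹ * v * (d * v * d⁻¹ * ((d * d) * v * (d * d)⁻¹)) * (d * v * d⁻¹ * v) *
            ((d * d) * v * (d * d)⁻¹ * v)
          = (d * v * d⁻¹) * v * (d * v * d⁻¹) * ((d * d) * v * (d * d)⁻¹) * (d * v * d⁻¹) * v *
              ((d * d) * v * (d * d)⁻¹) * v := by simp only [mul_assoc]
        _ = d * v * d⁻¹ * v := key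
    rw [← hprod]
    exact W.mul_mem hc1 hc2
  -- step 3: powers of `d`
  have hstep3 : ∀ i : ℕ, ∀ v ∈ V, d ^ i * v * (d ^ i)⁻¹ * v⁻¹ ∈ W := by
    intro i
    induction i with
    | zero => intro v _; simp
    | succ i ih =>
      intro v hv
      have ha₁ : d * v * d⁻¹ ∈ V := conj_mem_of_mem_normalizer (hKV hd) hv
      have h1 : d ^ (i + 1) * v * (d ^ (i + 1))⁻¹ * v⁻¹ =
          (d ^ i * (d * v * d⁻¹) * (d ^ i)⁻¹ * (d * v * d⁻¹)⁻¹) * (d * v * d⁻¹ * v⁻¹) := by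
        rw [pow_succ]; group
      rw [h1]
      exact W.mul_mem (ih _ ha₁) (hstep2 v hv)
  intro k hk v hv
  obtain ⟨i, r, hr, rfl⟩ := hdec k hk
  have hrv : r * v * r⁻¹ = v := by
    have := hVc v hv r (hRQ hr)
    rw [this]; group
  have h1 : d ^ i * r * v * (d ^ i * r)⁻¹ * v⁻¹ = d ^ i * (r * v * r⁻¹) * (d ^ i)⁻¹ * v⁻¹ := by
    group
  rw [h1, hrv]
  exact hstep3 i v hv

/-! ### the subgroup `D₁ = {g ∈ N(W) : [V, g] ≤ W}` -/

/-- The elements of `N(W)` acting trivially on `V / W`. -/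
def stabD (V W : Subgroup G) : Subgroup G where
  carrier := {g | g ∈ Subgroup.normalizer (W : Set G) ∧ ∀ v ∈ V, g * v * g⁻¹ * v⁻¹ ∈ W}
  one_mem' := ⟨Subgroup.one_mem _, fun v _ => by simp⟩
  mul_mem' := by
    rintro g h ⟨hg, hgV⟩ ⟨hh, hhV⟩
    refine ⟨Subgroup.mul_mem _ hg hh, fun v hv => ?_⟩
    have h1 : g * h * v * (g * h)⁻¹ * v⁻¹ = (g * (h * v * h⁻¹ * v⁻¹) * g⁻¹) * (g * v * g⁻¹ * v⁻¹) := by
      group
    rw [h1]
    exact W.mul_mem (conj_mem_of_mem_normalizer hg (hhV v hv)) (hgV v hv)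
  inv_mem' := by
    rintro g ⟨hg, hgV⟩
    refine ⟨Subgroup.inv_mem _ hg, fun v hv => ?_⟩
    have h1 : g⁻¹ * v * g⁻¹⁻¹ * v⁻¹ = g⁻¹ * (g * v * g⁻¹ * v⁻¹)⁻¹ * g := by group
    rw [h1]
    exact conj_inv_mem_of_mem_normalizer hg (W.inv_mem (hgV v hv))

theorem mem_stabD {V W : Subgroup G} {g : G} :
    g ∈ stabD V W ↔ g ∈ Subgroup.normalizer (W : Set G) ∧ ∀ v ∈ V, g * v * g⁻¹ * v⁻¹ ∈ W :=
  Iff.rfl

theorem conj_mem_stabD {V W : Subgroup G} {n g : G} (hnW : n ∈ Subgroup.normalizer (W : Set G))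
    (hnV : n ∈ Subgroup.normalizer (V : Set G)) (hg : g ∈ stabD V W) :
    n * g * n⁻¹ ∈ stabD V W := by
  obtain ⟨hgW, hgV⟩ := hg
  refine ⟨Subgroup.mul_mem _ (Subgroup.mul_mem _ hnW hgW) (Subgroup.inv_mem _ hnW), fun v hv => ?_⟩
  have hv' : n⁻¹ * v * n ∈ V := conj_inv_mem_of_mem_normalizer hnV hv
  have h1 : n * g * n⁻¹ * v * (n * g * n⁻¹)⁻¹ * v⁻¹ =
      n * (g * (n⁻¹ * v * n) * g⁻¹ * (n⁻¹ * v * n)⁻¹) * n⁻¹ := by group
  rw [h1]
  exact conj_mem_of_mem_normalizer hnW (hgV _ hv')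

/-- The square of an element of `D₁ ∩ C(W)` centralizes `V` (`V` abelian is not needed, only
that `W` has exponent 2). -/
theorem sq_mem_centralizer_of_mem_stabD {V W : Subgroup G} (hW2 : ∀ w ∈ W, w * w = 1) {g : G}
    (hg : g ∈ stabD V W) (hgc : g ∈ Subgroup.centralizer (W : Set G)) :
    g * g ∈ Subgroup.centralizer (V : Set G) := by
  rw [Subgroup.mem_centralizer_iff]
  intro v hv
  have hw := hg.2 v hv
  have hgw : g * (g * v * g⁻¹ * v⁻¹) * g⁻¹ = g * v * g⁻¹ * v⁻¹ :=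
    mem_centralizer_iff_conj.mp hgc _ hw
  have h1 : (g * g) * v * (g * g)⁻¹ = (g * (g * v * g⁻¹ * v⁻¹) * g⁻¹) * (g * v * g⁻¹ * v⁻¹) * v := by
    group
  have h2 : (g * g) * v * (g * g)⁻¹ = v := by
    rw [h1, hgw, hW2 _ hw, one_mul]
  calc v * (g * g) = ((g * g) * v * (g * g)⁻¹) * (g * g) := by rw [h2]
    _ = g * g * v := by group

/-! ### the main theorem -/

/-- **S2944, part 1.** For `K ∈ jComponentsZero T`: `N_G(W_K) ≤ N_G(K)`. -/
theorem normalizer_wOf_le [Finite G] (hL : Cfsg.IsCharacteristicTwoType G)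
    (hN : ∀ N : Subgroup G, Cfsg.IsTwoLocal N → Group.IsSolvable ↥N)
    (hZ : ∀ S : Sylow 2 G, Subgroup.centralizer (Cfsg.omegaCenterOf (S : Subgroup G) : Set G) ≤
      Subgroup.normalizer ((S : Subgroup G) : Set G))
    (T : Subgroup G) (hT : IsPGroup 2 ↥T) (K : Subgroup G)
    (hK : K ∈ Cfsg.jComponentsZero T) :
    Subgroup.normalizer (Cfsg.wOf K : Set G) ≤ Subgroup.normalizer (K : Set G) := by
  have : Fact (Nat.Prime 2) := ⟨Nat.prime_two⟩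
  obtain ⟨hKJ, hK0⟩ := hK
  have c := cfg_of_isJComponent hT hKJ
  obtain ⟨N, hNdef⟩ : ∃ N : Subgroup G, N = Subgroup.normalizer (Cfsg.wOf K : Set G) := ⟨_, rfl⟩
  rw [← hNdef] at hK0 ⊢
  have hW2grp : IsPGroup 2 (wOf K) := Cfsg.Agent.Lib.Helper81.KS12.wOf_isPGroup hKJ
  have hW1 : wOf K ≠ ⊥ := Cfsg.Agent.Lib.Helper81.KS12.wOf_ne_bot hKJ
  have hCQ : Subgroup.centralizer (pCoreOf 2 N : Set G) ≤ pCoreOf 2 N := by
    rw [hNdef]; exact centralizer_pCoreOf_normalizer_le hL hW2grp hW1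
  have hKN : K ≤ N := by rw [hNdef]; exact c.hKW
  have hJN : thompsonSubgroupOf 2 T ≤ N := by rw [hNdef]; exact c.hJW
  have hNW : N ≤ Subgroup.normalizer (wOf K : Set G) := hNdef.le
  have hWN : wOf K ≤ N := by rw [hNdef]; exact Subgroup.le_normalizer
  have hQ2 : IsPGroup 2 (pCoreOf 2 N) := pCoreOf_two_isPGroup N
  have hNQ : N ≤ Subgroup.normalizer (pCoreOf 2 N : Set G) :=
    Cfsg.Agent.Lib.Helper47.le_normalizer_pCoreOf 2 N
  have hWQ : wOf K ≤ pCoreOf 2 N :=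
    Cfsg.Agent.Lib.Helper85.KS12.le_pCoreOf_of_normal hW2grp hWN hNW
  have hQW : pCoreOf 2 N ≤ Subgroup.centralizer (wOf K : Set G) :=
    le_centralizer_W c hQ2 hWQ ((Cfsg.Agent.Lib.Helper47.pCoreOf_le 2 N).trans hNW)
      (hKN.trans hNQ)
  have hWV : wOf K ≤ VL N := by
    intro w hw
    refine mem_omegaCenterOf (hWQ hw) ?_ (by rw [pow_two]; exact c.hW2 w hw)
    rw [Subgroup.mem_centralizer_iff]
    intro q hq
    exact (Subgroup.mem_centralizer_iff.mp (hQW hq) w hw).symm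
  -- a Sylow 2-subgroup of `N` containing `J(T)`
  obtain ⟨S, hS, hJS⟩ := Cfsg.Agent.Lib.Helper85.KS12.exists_isSylowTwoIn_ge c.hJ2 hJN
  have hJeq : thompsonSubgroupOf 2 S = thompsonSubgroupOf 2 T := hK0 S hJS hS
  have hJnc : ¬ thompsonSubgroupOf 2 T ≤ Subgroup.centralizer (wOf K : Set G) :=
    c.J_not_centralizes
  have hNS : N ∈ jOvergroups S := ⟨hS, fun h => hJnc ((hJeq ▸ h).trans hQW), hCQ⟩
  have hS2 : IsPGroup 2 S := hS.2.1
  have hS1 : S ≠ ⊥ := by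
    intro h
    apply hJnc
    rw [h] at hJS
    exact hJS.trans bot_le
  have hKS : IsJComponent S K := Cfsg.Agent.Lib.Helper85.KS12.isJComponent_congr hJeq hKJ
  have hsub := Cfsg.Agent.S2942.result hL hN hZ S hS2 hS1 N hNS K hKS hKN
  have hRQ : pCoreOf 2 K ≤ pCoreOf 2 N := pCoreOf_le_pCoreOf_of_isSubnormal hKN hsub
  -- `C = C_N(V)`
  have hCS : CL N ≤ Subgroup.normalizer (S : Set G) := CL_le_normalizer hZ hS hCQ
  have hCJ : CL N ≤ Subgroup.normalizer (thompsonSubgroupOf 2 T : Set G) := by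
    have h1 := hCS.trans (Cfsg.Agent.Lib.Helper11.normalizer_le_normalizer_thompsonSubgroupOf 2 S)
    rwa [hJeq] at h1
  have hNC : N ≤ Subgroup.normalizer (CL N : Set G) := le_normalizer_CL N
  have hCK : CL N ≤ Subgroup.normalizer (K : Set G) :=
    Cfsg.Agent.Lib.Helper67.KS12.le_normalizer_of_normalizes_J hKJ.1 hKJ.2.1 c.hJ2
      (hKN.trans hNC) hCJ
  have hQC : pCoreOf 2 N ≤ CL N := pCoreOf_le_CL N
  have hQK : pCoreOf 2 N ≤ Subgroup.normalizer (K : Set G) := hQC.trans hCK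
  have hCW : CL N ≤ Subgroup.centralizer (wOf K : Set G) := fun x hx =>
    Subgroup.centralizer_le hWV (CL_le_centralizer N hx)
  have hodd : Odd ((pCoreOf 2 N).relIndex (CL N)) := (isSylowTwoIn_pCoreOf_CL hZ hS hCQ).2.2
  have hCQn : CL N ≤ Subgroup.normalizer (pCoreOf 2 N : Set G) := (CL_le N).trans hNQ
  have hNR : Subgroup.normalizer (K : Set G) ≤ Subgroup.normalizer (pCoreOf 2 K : Set G) :=
    Cfsg.Agent.Lib.Helper47.normalizer_le_normalizer_pCoreOf 2 K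
  have hKQn : K ≤ Subgroup.normalizer (pCoreOf 2 N : Set G) := hKN.trans hNQ
  have hQKR : pCoreOf 2 N ⊓ K ≤ pCoreOf 2 K :=
    Cfsg.Agent.Lib.Helper85.KS12.le_pCoreOf_of_normal (hQ2.to_le inf_le_left) inf_le_right
      (fun k hk => mem_normalizer_inf (hKQn hk) (Subgroup.le_normalizer hk))
  have hNV : N ≤ Subgroup.normalizer (VL N : Set G) := le_normalizer_VL N
  have hVel := VL_elemAb N
  rw [Cfsg.Agent.Lib.Helper10.isElementaryAbelian_iff] at hVel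
  have hKD : ∀ k ∈ K, ∀ v ∈ VL N, k * v * k⁻¹ * v⁻¹ ∈ wOf K :=
    comm_V_mem_W c rfl hRQ (VL_le_pCoreOf N)
      (fun v hv q hq => Subgroup.mem_centralizer_iff.mp (omegaCenterOf_le_centralizer _ hv) q hq)
      (fun v hv => by rw [← pow_two]; exact hVel.2 v hv) hVel.1 (hKN.trans hNV) hQK hQKR
  -- `D₁ ∩ C(W) = C`
  have hNcent : N ≤ Subgroup.normalizer
      ((Subgroup.centralizer (wOf K : Set G) : Subgroup G) : Set G) := fun n hn =>
    Cfsg.Agent.Lib.Helper47.normalizer_le_normalizer_centralizer (wOf K) (hNW hn)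
  have hD2 : stabD (VL N) (wOf K) ⊓ Subgroup.centralizer (wOf K : Set G) = CL N := by
    have hCD : CL N ≤ stabD (VL N) (wOf K) ⊓ Subgroup.centralizer (wOf K : Set G) := by
      intro x hx
      refine ⟨⟨hNW (CL_le N hx), fun v hv => ?_⟩, hCW hx⟩
      have h1 := Subgroup.mem_centralizer_iff.mp (CL_le_centralizer N hx) v hv
      have h2 : x * v * x⁻¹ * v⁻¹ = 1 := by rw [← h1]; group
      rw [h2]; exact Subgroup.one_mem _
    have hDN : stabD (VL N) (wOf K) ⊓ Subgroup.centralizer (wOf K : Set G) ≤ N := by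
      intro x hx
      rw [hNdef]; exact hx.1.1
    have hND : N ≤ Subgroup.normalizer
        ((stabD (VL N) (wOf K) ⊓ Subgroup.centralizer (wOf K : Set G) : Subgroup G) : Set G) := by
      intro n hn
      refine mem_normalizer_inf ?_ (hNcent hn)
      apply Cfsg.Agent.Lib.Helper85.KS12.mem_normalizer_of_conj_mem
      · intro x hx
        exact conj_mem_stabD (hNW hn) (hNV hn) hx
      · intro x hx
        have := conj_mem_stabD (Subgroup.inv_mem _ (hNW hn)) (Subgroup.inv_mem _ (hNV hn)) hx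
        simpa using this
    obtain ⟨k, hk⟩ := relIndex_two_pow_of_sq hCD (hDN.trans hNC) (fun g hg =>
      ⟨N.mul_mem (hDN hg) (hDN hg), sq_mem_centralizer_of_mem_stabD c.hW2 hg.1 hg.2⟩)
    exact CL_eq_of_relIndex hZ hS hCQ hCD hDN hND hk
  have hcomm : ∀ m ∈ N, m ∈ Subgroup.centralizer (wOf K : Set G) → ∀ g ∈ N,
      (∀ v ∈ VL N, g * v * g⁻¹ * v⁻¹ ∈ wOf K) → m * g * m⁻¹ * g⁻¹ ∈ CL N := by
    intro m hm hmW g hg hgV
    rw [← hD2]
    have hgD : g ∈ stabD (VL N) (wOf K) := ⟨hNW hg, hgV⟩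
    refine ⟨?_, ?_⟩
    · exact Subgroup.mul_mem _ (conj_mem_stabD (hNW hm) (hNV hm) hgD) (Subgroup.inv_mem _ hgD)
    · have h1 : m * g * m⁻¹ * g⁻¹ = m * (g * m⁻¹ * g⁻¹) := by group
      rw [h1]
      exact Subgroup.mul_mem _ hmW
        (conj_mem_of_mem_normalizer (hNcent hg) (Subgroup.inv_mem _ hmW))
  have hmKgen : ∀ m ∈ N, m ∈ Subgroup.centralizer (wOf K : Set G) → ∀ k ∈ K,
      k⁻¹ * (m * k * m⁻¹) ∈ CL N := by
    intro m hm hmW k hk
    have h1 := hcomm m hm hmW k (hKN hk) (hKD k hk)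
    have h2 := conj_inv_mem_of_mem_normalizer (hNC (hKN hk)) h1
    have h3 : k⁻¹ * (m * k * m⁻¹ * k⁻¹) * k = k⁻¹ * (m * k * m⁻¹) := by group
    rwa [h3] at h2
  -- 2-elements of `N` centralize `C / Q`
  have h2elt : ∀ u ∈ N, (∃ n : ℕ, u ^ (2 ^ n) = 1) → ∀ c' ∈ CL N,
      u * c' * u⁻¹ * c'⁻¹ ∈ pCoreOf 2 N := by
    rintro u hu ⟨n, hn⟩ c' hc'
    have hz2 : IsPGroup 2 (Subgroup.zpowers u) := by
      rintro ⟨x, hx⟩
      obtain ⟨k, rfl⟩ := Subgroup.mem_zpowers_iff.mp hx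
      refine ⟨n, Subtype.ext ?_⟩
      show (u ^ k) ^ (2 ^ n) = 1
      rw [← zpow_natCast, ← zpow_mul, mul_comm, zpow_mul, zpow_natCast, hn, one_zpow]
    obtain ⟨S', hS', huS'⟩ := Cfsg.Agent.Lib.Helper85.KS12.exists_isSylowTwoIn_ge hz2
      (Subgroup.zpowers_le.mpr hu)
    have h1 := comm_CL_le hZ hS' hCQ
    have h2 : ⁅c', u⁆ ∈ ⁅CL N, S'⁆ :=
      Subgroup.commutator_mem_commutator hc' (huS' (Subgroup.mem_zpowers u))
    have h3 := h1 h2
    have h4 : u * c' * u⁻¹ * c'⁻¹ = (⁅c', u⁆)⁻¹ := by rw [commutatorElement_def]; group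
    rw [h4]
    exact Subgroup.inv_mem _ h3
  -- the transvection `t`
  obtain ⟨t, htN, ht2, httC, htW, htV⟩ := exists_transv hN hZ hS1 hNS (wOf K) hWV hNW
    (by rw [hJeq]; exact hJnc)
  have htNW : t ∈ Subgroup.normalizer (wOf K : Set G) := hNW htN
  have htfix2 : ∀ w ∈ wOf K, t * (t * w * t⁻¹) * t⁻¹ = w := by
    intro w hw
    have h1 := mem_centralizer_iff_conj.mp (hCW httC) w hw
    calc t * (t * w * t⁻¹) * t⁻¹ = (t * t) * w * (t * t)⁻¹ := by group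
      _ = w := h1
  have htnc : ¬ ∀ w ∈ wOf K, t * w * t⁻¹ = w := fun h => htW (mem_centralizer_iff_conj.mpr h)
  obtain ⟨ut, hut, hut1, hutf⟩ := exists_fix c.hW4 c.hW2 c.Wcomm htNW htfix2
  -- an element `d ∈ K \ O₂(K)`
  obtain ⟨d, hd, hdR⟩ := c.exists_d
  obtain ⟨hd3, -⟩ := q3 c.hRK c.hKR c.hidx hd hdR
  have hddR : d * d ∉ pCoreOf 2 K := by
    intro h
    apply hdR
    have h1 : d = d ^ 3 * (d * d)⁻¹ := by group
    rw [h1]
    exact Subgroup.mul_mem _ hd3 (Subgroup.inv_mem _ h)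
  have hdW : d ∈ Subgroup.normalizer (wOf K : Set G) := c.hKW hd
  have hfp1 : ∀ w ∈ wOf K, d * w * d⁻¹ = w → w = 1 := c.hfp d hd hdR
  have hfp2 : ∀ w ∈ wOf K, (d * d) * w * (d * d)⁻¹ = w → w = 1 :=
    c.hfp (d * d) (K.mul_mem hd hd) hddR
  -- an involution `a ∈ J(T)` not centralizing `W`
  obtain ⟨A, hA, hAW⟩ := c.exists_max_not_centralizes
  obtain ⟨a, haA, haW⟩ := SetLike.not_le_iff_exists.mp hAW
  have haJ : a ∈ thompsonSubgroupOf 2 T := c.max_le_J hA haA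
  have haa : a * a = 1 := c.max_sq hA haA
  have haNW : a ∈ Subgroup.normalizer (wOf K : Set G) := c.hJW haJ
  have hafix2 : ∀ w ∈ wOf K, a * (a * w * a⁻¹) * a⁻¹ = w := by
    intro w hw
    calc a * (a * w * a⁻¹) * a⁻¹ = (a * a) * w * (a * a)⁻¹ := by group
      _ = w := by rw [haa]; group
  obtain ⟨ua, hua, hua1, huaf⟩ := exists_fix c.hW4 c.hW2 c.Wcomm haNW hafix2
  have hk : ∃ k ∈ K, k * ua * k⁻¹ = ut := by
    rcases orbit3 c.hW4 hdW hfp1 hfp2 hua hua1 hut hut1 with h | h | h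
    · exact ⟨1, K.one_mem, by rw [h]; group⟩
    · exact ⟨d, hd, h.symm⟩
    · exact ⟨d * d, K.mul_mem hd hd, h.symm⟩
  obtain ⟨k, hk, hkua⟩ := hk
  -- `a' = k a k⁻¹` has the same fixed point on `W` as `t`
  obtain ⟨a', ha'⟩ : ∃ a' : G, a' = k * a * k⁻¹ := ⟨_, rfl⟩
  have ha'K : a' ∈ Subgroup.normalizer (K : Set G) := by
    rw [ha']
    exact Subgroup.mul_mem _ (Subgroup.mul_mem _ (Subgroup.le_normalizer hk) (c.hJK haJ))
      (Subgroup.inv_mem _ (Subgroup.le_normalizer hk))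
  have ha'N : a' ∈ N := by
    rw [ha']
    exact N.mul_mem (N.mul_mem (hKN hk) (hJN haJ)) (N.inv_mem (hKN hk))
  have ha'a' : a' * a' = 1 := by
    rw [ha']
    calc k * a * k⁻¹ * (k * a * k⁻¹) = k * (a * a) * k⁻¹ := by group
      _ = 1 := by rw [haa]; group
  have ha'f : a' * ut * a'⁻¹ = ut := by
    rw [← hkua, ha']
    calc k * a * k⁻¹ * (k * ua * k⁻¹) * (k * a * k⁻¹)⁻¹ = k * (a * ua * a⁻¹) * k⁻¹ := by group
      _ = k * ua * k⁻¹ := by rw [huaf]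
  have ha'nc : ¬ ∀ w ∈ wOf K, a' * w * a'⁻¹ = w := by
    intro h
    apply haW
    rw [mem_centralizer_iff_conj]
    intro w hw
    have hkw : k * w * k⁻¹ ∈ wOf K := conj_mem_of_mem_normalizer (c.hKW hk) hw
    have h1 := h _ hkw
    calc a * w * a⁻¹ = k⁻¹ * (a' * (k * w * k⁻¹) * a'⁻¹) * k := by rw [ha']; group
      _ = k⁻¹ * (k * w * k⁻¹) * k := by rw [h1]
      _ = w := by group
  have ha'NW : a' ∈ Subgroup.normalizer (wOf K : Set G) := hNW ha'N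
  have hsame := fix_same c.hW4 c.hW2 htNW ha'NW hut hut1 hutf ha'f htnc ha'nc
  have hm₀N : t * a'⁻¹ ∈ N := N.mul_mem htN (N.inv_mem ha'N)
  have hm₀W : t * a'⁻¹ ∈ Subgroup.centralizer (wOf K : Set G) := by
    rw [mem_centralizer_iff_conj]
    intro w hw
    have hw' : a'⁻¹ * w * a' ∈ wOf K := conj_inv_mem_of_mem_normalizer ha'NW hw
    calc t * a'⁻¹ * w * (t * a'⁻¹)⁻¹ = t * (a'⁻¹ * w * a') * t⁻¹ := by group
      _ = a' * (a'⁻¹ * w * a') * a'⁻¹ := hsame _ hw'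
      _ = w := by group
  -- `t` normalizes `K`
  have htK : t ∈ Subgroup.normalizer (K : Set G) := by
    have hu₁N : t * a' * t⁻¹ ∈ N := N.mul_mem (N.mul_mem htN ha'N) (N.inv_mem htN)
    have hu₁sq : (t * a' * t⁻¹) * (t * a' * t⁻¹) = 1 := by
      calc (t * a' * t⁻¹) * (t * a' * t⁻¹) = t * (a' * a') * t⁻¹ := by group
        _ = 1 := by rw [ha'a']; group
    have hu₁W : t * a' * t⁻¹ ∉ Subgroup.centralizer (wOf K : Set G) := by
      intro h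
      apply ha'nc
      have h1 := conj_inv_mem_of_mem_normalizer (hNcent htN) h
      have h2 : t⁻¹ * (t * a' * t⁻¹) * t = a' := by group
      rw [h2] at h1
      exact mem_centralizer_iff_conj.mp h1
    have hu₁fix2 : ∀ w ∈ wOf K, (t * a' * t⁻¹) * ((t * a' * t⁻¹) * w * (t * a' * t⁻¹)⁻¹) *
        (t * a' * t⁻¹)⁻¹ = w := by
      intro w hw
      calc (t * a' * t⁻¹) * ((t * a' * t⁻¹) * w * (t * a' * t⁻¹)⁻¹) * (t * a' * t⁻¹)⁻¹
          = ((t * a' * t⁻¹) * (t * a' * t⁻¹)) * w * ((t * a' * t⁻¹) * (t * a' * t⁻¹))⁻¹ := by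
            group
        _ = w := by rw [hu₁sq]; group
    have hu₁C := h2elt _ hu₁N ⟨1, by rw [pow_one, pow_two]; exact hu₁sq⟩
    have hu₁K : t * a' * t⁻¹ ∈ Subgroup.normalizer (K : Set G) := by
      have h1 := hcomm (t * a'⁻¹)⁻¹ (N.inv_mem hm₀N) (Subgroup.inv_mem _ hm₀W) t htN htV
      have h2 : t * a' * t⁻¹ = ((t * a'⁻¹)⁻¹ * t * (t * a'⁻¹)⁻¹⁻¹ * t⁻¹)⁻¹ * a' := by group
      rw [h2]
      exact Subgroup.mul_mem _ (Subgroup.inv_mem _ (hCK h1)) ha'K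
    have hu₁K' : (t * a'⁻¹)⁻¹ * (t * a' * t⁻¹) * (t * a'⁻¹) ∈
        Subgroup.normalizer (K : Set G) := by
      have h2 : (t * a'⁻¹)⁻¹ * (t * a' * t⁻¹) * (t * a'⁻¹) = a' := by group
      rw [h2]; exact ha'K
    have hm₀K : t * a'⁻¹ ∈ Subgroup.normalizer (K : Set G) :=
      mem_normalizer_of_conj_le (key_conj_mem c hKJ.1 hNR hRQ hQ2 hKQn hQK hCK hCW hQC hCQn hodd
        (hNQ hm₀N) hm₀W (hmKgen _ hm₀N hm₀W) (hNW hu₁N) hu₁W hu₁fix2 hu₁C hu₁K hu₁K')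
    have h3 : t = (t * a'⁻¹) * a' := by group
    rw [h3]
    exact Subgroup.mul_mem _ hm₀K ha'K
  -- `C_N(W)` normalizes `K`
  have hMK : ∀ m ∈ N, m ∈ Subgroup.centralizer (wOf K : Set G) →
      m ∈ Subgroup.normalizer (K : Set G) := by
    intro m hm hmW
    have htK' : m⁻¹ * t * m ∈ Subgroup.normalizer (K : Set G) := by
      have h1 := hcomm m⁻¹ (N.inv_mem hm) (Subgroup.inv_mem _ hmW) t htN htV
      have h2 : m⁻¹ * t * m = (m⁻¹ * t * m⁻¹⁻¹ * t⁻¹) * t := by group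
      rw [h2]
      exact Subgroup.mul_mem _ (hCK h1) htK
    exact mem_normalizer_of_conj_le (key_conj_mem c hKJ.1 hNR hRQ hQ2 hKQn hQK hCK hCW hQC hCQn
      hodd (hNQ hm) hmW (hmKgen m hm hmW) htNW htW htfix2 (h2elt t htN ht2) htK htK')
  -- `N = K ⟨t⟩ C_N(W)`
  intro x hx
  have hxW : x ∈ Subgroup.normalizer (wOf K : Set G) := hNW hx
  have hxu : x * ut * x⁻¹ ∈ wOf K := conj_mem_of_mem_normalizer hxW hut
  have hxu1 : x * ut * x⁻¹ ≠ 1 := by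
    intro h
    apply hut1
    have h1 : ut = x⁻¹ * (x * ut * x⁻¹) * x := by group
    rw [h1, h]; group
  have hk₂ : ∃ k₂ ∈ K, k₂ * ut * k₂⁻¹ = x * ut * x⁻¹ := by
    rcases orbit3 c.hW4 hdW hfp1 hfp2 hut hut1 hxu hxu1 with h | h | h
    · exact ⟨1, K.one_mem, by rw [h]; group⟩
    · exact ⟨d, hd, h.symm⟩
    · exact ⟨d * d, K.mul_mem hd hd, h.symm⟩
  obtain ⟨k₂, hk₂, hk₂u⟩ := hk₂
  have hyN : k₂⁻¹ * x ∈ N := N.mul_mem (N.inv_mem (hKN hk₂)) hx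
  have hyf : (k₂⁻¹ * x) * ut * (k₂⁻¹ * x)⁻¹ = ut := by
    calc (k₂⁻¹ * x) * ut * (k₂⁻¹ * x)⁻¹ = k₂⁻¹ * (x * ut * x⁻¹) * k₂ := by group
      _ = k₂⁻¹ * (k₂ * ut * k₂⁻¹) * k₂ := by rw [hk₂u]
      _ = ut := by group
  by_cases hy : ∀ w ∈ wOf K, (k₂⁻¹ * x) * w * (k₂⁻¹ * x)⁻¹ = w
  · have h1 := hMK _ hyN (mem_centralizer_iff_conj.mpr hy)
    have h2 : x = k₂ * (k₂⁻¹ * x) := by group
    rw [h2]
    exact Subgroup.mul_mem _ (Subgroup.le_normalizer hk₂) h1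
  · have hsame2 := fix_same c.hW4 c.hW2 htNW (hNW hyN) hut hut1 hutf hyf htnc hy
    have h1 : t⁻¹ * (k₂⁻¹ * x) ∈ Subgroup.centralizer (wOf K : Set G) := by
      rw [mem_centralizer_iff_conj]
      intro w hw
      calc t⁻¹ * (k₂⁻¹ * x) * w * (t⁻¹ * (k₂⁻¹ * x))⁻¹
          = t⁻¹ * ((k₂⁻¹ * x) * w * (k₂⁻¹ * x)⁻¹) * t := by group
        _ = t⁻¹ * (t * w * t⁻¹) * t := by rw [hsame2 w hw]
        _ = w := by group
    have h2 := hMK _ (N.mul_mem (N.inv_mem htN) hyN) h1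
    have h3 : x = k₂ * (t * (t⁻¹ * (k₂⁻¹ * x))) := by group
    rw [h3]
    exact Subgroup.mul_mem _ (Subgroup.le_normalizer hk₂) (Subgroup.mul_mem _ htK h2)

end Cfsg.Agent.Lib.Helper54.KS12
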