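import Mathlib
import Cfsg.Agent.Lib.Helper54.KS12.S3Act
import Cfsg.Agent.Lib.Helper54.KS12.S2944Key
import Cfsg.Agent.Lib.Helper54.KS12.S2944Core
import Cfsg.Agent.Lib.Helper71.JC.JCInst
import Cfsg.Agent.Lib.Helper71.JC.JCZ
import Cfsg.Agent.Lib.Helper81.KS12.JCompConj
import Cfsg.Agent.Lib.Helper85.KS12.S2949Core
import Cfsg.Agent.Lib.Helper2.KS12.PZ
import Cfsg.Agent.Lib.Helper90.SylowCount

/-!
Kurzweil–Stellmacher chapter 12 cluster, statement S2953, package (G), pure core (helper54).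

`K` a `J(T)`-component normalized by the 2-group `T`, with `T` a Sylow 2-subgroup of `P = K ⊔ T`.
Then, with `W = wOf K` and `R = pCoreOf 2 K`:

* `R ≤ T`, `W ≤ T`, `K ⊓ T = R`, `|P : T| = 3`;
* `O₂(P) = C_T(W)`, of index 2 in `T` and 6 in `P`;
* `P / O₂(P)` is not abelian;
* `[Ω₁(Z(T)), P] ≠ 1`.
-/

set_option autoImplicit false

namespace Cfsg.Agent.Lib.Helper54.KS12

open Cfsg Cfsg.Agent.Lib.Helper71.JC
open scoped commutatorElement

universe u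
variable {G : Type u} [Group G] [Finite G] {T K : Subgroup G}

/-- `O₂(K) ≤ T`. -/
theorem pCoreOf_le_of_sup (hTK : T ≤ Subgroup.normalizer (K : Set G))
    (hTP : IsSylowTwoIn T (K ⊔ T)) : pCoreOf 2 K ≤ T := by
  have : Fact (Nat.Prime 2) := ⟨Nat.prime_two⟩
  have hPK : K ⊔ T ≤ Subgroup.normalizer (K : Set G) := sup_le Subgroup.le_normalizer hTK
  exact Cfsg.Agent.Lib.Helper85.KS12.le_of_isSylowTwoIn hTP
    (Cfsg.Agent.Lib.Helper2.KS12.pCoreOf_two_isPGroup K)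
    ((Cfsg.Agent.Lib.Helper47.pCoreOf_le 2 K).trans le_sup_left)
    (hPK.trans (Cfsg.Agent.Lib.Helper47.normalizer_le_normalizer_pCoreOf 2 K))

/-- `W_K ≤ T`. -/
theorem wOf_le_of_sup (hKJ : IsJComponent T K) (hTK : T ≤ Subgroup.normalizer (K : Set G))
    (hTP : IsSylowTwoIn T (K ⊔ T)) : wOf K ≤ T :=
  (cfg_of_isJComponent hTP.2.1 hKJ).hWR.trans (pCoreOf_le_of_sup hTK hTP)

omit [Finite G] in
/-- `T ≤ N_G(W_K)`. -/
theorem le_normalizer_wOf_of_le (hTK : T ≤ Subgroup.normalizer (K : Set G)) :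
    T ≤ Subgroup.normalizer (wOf K : Set G) :=
  hTK.trans (Cfsg.Agent.Lib.Helper81.KS12.normalizer_le_normalizer_wOf K)

/-- A nontrivial element of `W_K` central in `T`. -/
theorem exists_central_wOf (hKJ : IsJComponent T K) (hTK : T ≤ Subgroup.normalizer (K : Set G))
    (hTP : IsSylowTwoIn T (K ⊔ T)) : ∃ w ∈ wOf K, w ≠ 1 ∧ ∀ g ∈ T, g * w = w * g := by
  have : Fact (Nat.Prime 2) := ⟨Nat.prime_two⟩
  have c := cfg_of_isJComponent hTP.2.1 hKJ
  exact Cfsg.Agent.Lib.Helper53.exists_mem_center_of_normal_subgroup hTP.2.1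
    (wOf_le_of_sup hKJ hTK hTP) (le_normalizer_wOf_of_le hTK) c.W_ne_bot

/-- `K ∩ T = O₂(K)`. -/
theorem inf_eq_pCoreOf (hKJ : IsJComponent T K) (hTK : T ≤ Subgroup.normalizer (K : Set G))
    (hTP : IsSylowTwoIn T (K ⊔ T)) : K ⊓ T = pCoreOf 2 K := by
  have c := cfg_of_isJComponent hTP.2.1 hKJ
  apply le_antisymm
  · rintro x ⟨hxK, hxT⟩
    by_contra hxR
    obtain ⟨w, hw, hw1, hwc⟩ := exists_central_wOf hKJ hTK hTP
    apply hw1
    apply c.hfp x hxK hxR w hw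
    rw [hwc x hxT]; group
  · exact le_inf c.hRK (pCoreOf_le_of_sup hTK hTP)

/-- `|K ⊔ T : T| = 3`. -/
theorem relIndex_sup_eq_three (hKJ : IsJComponent T K)
    (hTK : T ≤ Subgroup.normalizer (K : Set G)) (hTP : IsSylowTwoIn T (K ⊔ T)) :
    T.relIndex (K ⊔ T) = 3 := by
  have c := cfg_of_isJComponent hTP.2.1 hKJ
  have h1 := Cfsg.Agent.Lib.Helper90.card_sup_mul_card_inf_of_le_normalizer hTK
  rw [sup_comm, inf_comm, inf_eq_pCoreOf hKJ hTK hTP] at h1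
  have h2 := Cfsg.Agent.Lib.Helper2.KS12.card_mul_relIndex_of_le c.hRK
  rw [c.hidx] at h2
  have h3 := Cfsg.Agent.Lib.Helper2.KS12.card_mul_relIndex_of_le (le_sup_right : T ≤ K ⊔ T)
  have hR : 0 < Nat.card (pCoreOf 2 K) := Nat.card_pos
  have hT : 0 < Nat.card T := Nat.card_pos
  rw [← h2, ← h3] at h1
  have h4 : Nat.card T * Nat.card (pCoreOf 2 K) * T.relIndex (K ⊔ T) =
      Nat.card T * Nat.card (pCoreOf 2 K) * 3 := by nlinarith
  exact Nat.eq_of_mul_eq_mul_left (Nat.mul_pos hT hR) h4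

/-- `|T : C_T(W_K)| = 2`. -/
theorem relIndex_inf_centralizer (hKJ : IsJComponent T K)
    (hTK : T ≤ Subgroup.normalizer (K : Set G)) (hTP : IsSylowTwoIn T (K ⊔ T)) :
    (T ⊓ Subgroup.centralizer (wOf K : Set G)).relIndex T = 2 := by
  have c := cfg_of_isJComponent hTP.2.1 hKJ
  obtain ⟨w₀, hw₀, hw₀1, hw₀c⟩ := exists_central_wOf hKJ hTK hTP
  have hTW := le_normalizer_wOf_of_le hTK
  have hfix : ∀ g ∈ T, g * w₀ * g⁻¹ = w₀ := fun g hg => by rw [hw₀c g hg]; group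
  have hJT : thompsonSubgroupOf 2 T ≤ T := Cfsg.Agent.Lib.Helper11.thompsonSubgroupOf_le 2 T
  obtain ⟨a, haJ, haC⟩ : ∃ a ∈ thompsonSubgroupOf 2 T,
      a ∉ Subgroup.centralizer (wOf K : Set G) := by
    by_contra h
    push Not at h
    exact c.J_not_centralizes h
  have haT := hJT haJ
  rw [Subgroup.relIndex_eq_two_iff]
  refine ⟨a, haT, fun b hb => ?_⟩
  by_cases hbC : b ∈ Subgroup.centralizer (wOf K : Set G)
  · refine Or.inr ⟨⟨hb, hbC⟩, fun h => haC ?_⟩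
    have : a = b⁻¹ * (b * a) := by group
    rw [this]; exact Subgroup.mul_mem _ (Subgroup.inv_mem _ hbC) h.2
  · refine Or.inl ⟨⟨T.mul_mem hb haT, mem_centralizer_iff_conj.mpr fun w hw => ?_⟩,
      fun h => hbC h.2⟩
    have hn : ¬ ∀ w ∈ wOf K, b * w * b⁻¹ = w := fun h => hbC (mem_centralizer_iff_conj.mpr h)
    have hn' : ¬ ∀ w ∈ wOf K, a⁻¹ * w * a⁻¹⁻¹ = w := fun h => haC (by
      have h1 := Subgroup.inv_mem _ (mem_centralizer_iff_conj.mpr h)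
      rwa [inv_inv] at h1)
    have hsame := fix_same c.hW4 c.hW2 (hTW hb) (hTW (T.inv_mem haT)) hw₀ hw₀1 (hfix b hb)
      (hfix a⁻¹ (T.inv_mem haT)) hn hn'
    have hw' : a * w * a⁻¹ ∈ wOf K := conj_mem_of_mem_normalizer (hTW haT) hw
    have h2 := hsame _ hw'
    calc b * a * w * (b * a)⁻¹ = b * (a * w * a⁻¹) * b⁻¹ := by group
      _ = a⁻¹ * (a * w * a⁻¹) * a⁻¹⁻¹ := h2
      _ = w := by group

/-- `K` normalizes `C_T(W_K)`. -/
theorem le_normalizer_inf_centralizer (hKJ : IsJComponent T K)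
    (hTK : T ≤ Subgroup.normalizer (K : Set G)) (hTP : IsSylowTwoIn T (K ⊔ T)) :
    K ⊔ T ≤ Subgroup.normalizer ((T ⊓ Subgroup.centralizer (wOf K : Set G) : Subgroup G) : Set G) := by
  have c := cfg_of_isJComponent hTP.2.1 hKJ
  have hTW := le_normalizer_wOf_of_le hTK
  have hRT := pCoreOf_le_of_sup hTK hTP
  rw [sup_le_iff]
  constructor
  · intro k hk
    apply mem_normalizer_of_conj_le
    rintro q ⟨hqT, hqC⟩
    have hkqC : k * q * k⁻¹ ∈ Subgroup.centralizer (wOf K : Set G) :=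
      conj_mem_of_mem_normalizer
        (Cfsg.Agent.Lib.Helper47.normalizer_le_normalizer_centralizer _ (c.hKW hk)) hqC
    have hcC : k * q * k⁻¹ * q⁻¹ ∈ Subgroup.centralizer (wOf K : Set G) :=
      Subgroup.mul_mem _ hkqC (Subgroup.inv_mem _ hqC)
    have hkq : k * q * k⁻¹ * q⁻¹ ∈ pCoreOf 2 K := by
      apply c.mem_R_of_centralizes
      · have h1 : k * q * k⁻¹ * q⁻¹ = k * (q * k⁻¹ * q⁻¹) := by group
        rw [h1]
        exact K.mul_mem hk (conj_mem_of_mem_normalizer (hTK hqT) (K.inv_mem hk))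
      · exact mem_centralizer_iff_conj.mp hcC
    have h2 : k * q * k⁻¹ = (k * q * k⁻¹ * q⁻¹) * q := by group
    rw [h2]
    exact ⟨T.mul_mem (hRT hkq) hqT, Subgroup.mul_mem _ hcC hqC⟩
  · intro t ht
    exact Cfsg.Agent.Lib.Helper2.KS12.mem_normalizer_inf (Subgroup.le_normalizer ht)
      (Cfsg.Agent.Lib.Helper47.normalizer_le_normalizer_centralizer _ (hTW ht))

/-- `O₂(K ⊔ T) = C_T(W_K)`. -/
theorem pCoreOf_sup_eq (hKJ : IsJComponent T K) (hTK : T ≤ Subgroup.normalizer (K : Set G))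
    (hTP : IsSylowTwoIn T (K ⊔ T)) :
    pCoreOf 2 (K ⊔ T) = T ⊓ Subgroup.centralizer (wOf K : Set G) := by
  have : Fact (Nat.Prime 2) := ⟨Nat.prime_two⟩
  have c := cfg_of_isJComponent hTP.2.1 hKJ
  have hPK : K ⊔ T ≤ Subgroup.normalizer (K : Set G) := sup_le Subgroup.le_normalizer hTK
  have hPW : K ⊔ T ≤ Subgroup.normalizer (wOf K : Set G) :=
    hPK.trans (Cfsg.Agent.Lib.Helper81.KS12.normalizer_le_normalizer_wOf K)
  have hQ2 := Cfsg.Agent.Lib.Helper2.KS12.pCoreOf_two_isPGroup (K ⊔ T)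
  have hQP := Cfsg.Agent.Lib.Helper47.pCoreOf_le 2 (K ⊔ T)
  have hPQ := Cfsg.Agent.Lib.Helper47.le_normalizer_pCoreOf 2 (K ⊔ T)
  apply le_antisymm
  · apply le_inf
    · exact Cfsg.Agent.Lib.Helper85.KS12.le_of_isSylowTwoIn hTP hQ2 hQP hPQ
    · have hWQ : wOf K ≤ pCoreOf 2 (K ⊔ T) :=
        Cfsg.Agent.Lib.Helper85.KS12.le_pCoreOf_of_normal (c.hR2.to_le c.hWR)
          ((c.hWR.trans c.hRK).trans le_sup_left) hPW
      exact le_centralizer_W c hQ2 hWQ (hQP.trans hPW) (le_sup_left.trans hPQ)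
  · exact Cfsg.Agent.Lib.Helper85.KS12.le_pCoreOf_of_normal (hTP.2.1.to_le inf_le_left)
      (inf_le_left.trans le_sup_right) (le_normalizer_inf_centralizer hKJ hTK hTP)

/-- `|K ⊔ T : O₂(K ⊔ T)| = 6`. -/
theorem relIndex_pCoreOf_sup (hKJ : IsJComponent T K) (hTK : T ≤ Subgroup.normalizer (K : Set G))
    (hTP : IsSylowTwoIn T (K ⊔ T)) : (pCoreOf 2 (K ⊔ T)).relIndex (K ⊔ T) = 6 := by
  rw [pCoreOf_sup_eq hKJ hTK hTP]
  have h := Subgroup.relIndex_mul_relIndex (T ⊓ Subgroup.centralizer (wOf K : Set G)) T (K ⊔ T)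
    inf_le_left le_sup_right
  rw [relIndex_inf_centralizer hKJ hTK hTP, relIndex_sup_eq_three hKJ hTK hTP] at h
  exact h.symm

/-- `(K ⊔ T) / O₂(K ⊔ T)` is not abelian. -/
theorem not_commutator_sup_le (hKJ : IsJComponent T K) (hTK : T ≤ Subgroup.normalizer (K : Set G))
    (hTP : IsSylowTwoIn T (K ⊔ T)) : ¬ ⁅K ⊔ T, K ⊔ T⁆ ≤ pCoreOf 2 (K ⊔ T) := by
  have : Fact (Nat.Prime 2) := ⟨Nat.prime_two⟩
  have c := cfg_of_isJComponent hTP.2.1 hKJ
  intro hle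
  obtain ⟨d, hd, hdR⟩ := c.exists_d
  obtain ⟨A, hA, hAC⟩ := c.exists_max_not_centralizes
  obtain ⟨a, haA, haC⟩ : ∃ a ∈ A, a ∉ Subgroup.centralizer (wOf K : Set G) := by
    by_contra h
    push Not at h
    exact hAC h
  have haJ : a ∈ thompsonSubgroupOf 2 T := c.max_le_J hA haA
  have haT : a ∈ T := Cfsg.Agent.Lib.Helper11.thompsonSubgroupOf_le 2 T haJ
  have ha2 : a * a = 1 := c.max_sq hA haA
  have haK : a ∈ Subgroup.normalizer (K : Set G) := hTK haT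
  have haW := Cfsg.Agent.Lib.Helper81.KS12.normalizer_le_normalizer_wOf K haK
  have hu2 : ∀ w ∈ wOf K, a * (a * w * a⁻¹) * a⁻¹ = w := by
    intro w _
    have h1 : a * (a * w * a⁻¹) * a⁻¹ = (a * a) * w * (a * a)⁻¹ := by group
    rw [h1, ha2]; group
  have h1 := inv_mod_R c (Cfsg.Agent.Lib.Helper47.normalizer_le_normalizer_pCoreOf 2 K) haW haC
    hu2 haK hd hdR
  have h2 : ⁅a, d⁆ ∈ pCoreOf 2 (K ⊔ T) :=
    hle (Subgroup.commutator_mem_commutator (le_sup_right (a := K) haT) (le_sup_left (b := T) hd))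
  rw [pCoreOf_sup_eq hKJ hTK hTP, commutatorElement_def] at h2
  have h3 : a * d * a⁻¹ * d⁻¹ ∈ pCoreOf 2 K := by
    apply c.mem_R_of_centralizes
    · exact K.mul_mem (conj_mem_of_mem_normalizer haK hd) (K.inv_mem hd)
    · exact mem_centralizer_iff_conj.mp h2.2
  have h4 : d * d ∈ pCoreOf 2 K := by
    have h5 : d * d = (a * d * a⁻¹ * d⁻¹)⁻¹ * (a * d * a⁻¹ * d) := by group
    rw [h5]; exact Subgroup.mul_mem _ (Subgroup.inv_mem _ h3) h1
  obtain ⟨hd3, -⟩ := q3 c.hRK c.hKR c.hidx hd hdR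
  apply hdR
  have h6 : d = d ^ 3 * (d * d)⁻¹ := by group
  rw [h6]; exact Subgroup.mul_mem _ hd3 (Subgroup.inv_mem _ h4)

/-- `[Ω₁(Z(T)), K ⊔ T] ≠ 1`. -/
theorem omega_commutator_sup_ne_bot (hKJ : IsJComponent T K)
    (hTK : T ≤ Subgroup.normalizer (K : Set G)) (hTP : IsSylowTwoIn T (K ⊔ T)) :
    ⁅omegaCenterOf T, K ⊔ T⁆ ≠ ⊥ := by
  have c := cfg_of_isJComponent hTP.2.1 hKJ
  obtain ⟨w, hw, hw1, hwc⟩ := exists_central_wOf hKJ hTK hTP
  obtain ⟨d, hd, hdR⟩ := c.exists_d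
  intro hbot
  have hwZ : w ∈ omegaCenterOf T := by
    rw [mem_omegaCenterOf_iff]
    exact ⟨wOf_le_of_sup hKJ hTK hTP hw, fun j hj => hwc j hj, by rw [pow_two]; exact c.hW2 w hw⟩
  have h1 : ⁅w, d⁆ ∈ ⁅omegaCenterOf T, K ⊔ T⁆ :=
    Subgroup.commutator_mem_commutator hwZ (le_sup_left (b := T) hd)
  rw [hbot, Subgroup.mem_bot, commutatorElement_def] at h1
  apply hw1
  apply c.hfp d hd hdR w hw
  have h2 : d * w * d⁻¹ = (w * d * w⁻¹ * d⁻¹)⁻¹ * w := by group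
  rw [h2, h1]; group

/-- Package (G) of S2953, pure core: the four "local" clauses for `P = K ⊔ T`. -/
theorem sup_core (hKJ : IsJComponent T K) (hTK : T ≤ Subgroup.normalizer (K : Set G))
    (hTP : IsSylowTwoIn T (K ⊔ T)) :
    (pCoreOf 2 (K ⊔ T)).relIndex (K ⊔ T) = 6 ∧ ¬ ⁅K ⊔ T, K ⊔ T⁆ ≤ pCoreOf 2 (K ⊔ T) ∧
      ⁅omegaCenterOf T, K ⊔ T⁆ ≠ ⊥ :=
  ⟨relIndex_pCoreOf_sup hKJ hTK hTP, not_commutator_sup_le hKJ hTK hTP,
    omega_commutator_sup_ne_bot hKJ hTK hTP⟩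

/-! ### By-products for the `(K', T')` data of the lemma AL -/

/-- `C_K(W_K) = O₂(K)`. -/
theorem inf_centralizer_wOf_eq (hT2 : IsPGroup 2 T) (hKJ : IsJComponent T K) :
    K ⊓ Subgroup.centralizer (wOf K : Set G) = pCoreOf 2 K := by
  have c := cfg_of_isJComponent hT2 hKJ
  apply le_antisymm
  · rintro k ⟨hk, hkC⟩
    exact c.mem_R_of_centralizes hk (mem_centralizer_iff_conj.mp hkC)
  · refine le_inf c.hRK fun r hr => ?_
    rw [Subgroup.mem_centralizer_iff]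
    intro w hw
    exact c.hWZ w hw r hr

/-- `|K : C_K(W_K)| = 3`. -/
theorem relIndex_inf_centralizer_wOf (hT2 : IsPGroup 2 T) (hKJ : IsJComponent T K) :
    (K ⊓ Subgroup.centralizer (wOf K : Set G)).relIndex K = 3 := by
  rw [inf_centralizer_wOf_eq hT2 hKJ]
  exact (cfg_of_isJComponent hT2 hKJ).hidx

/-- `C_K(W_K) ≤ T`. -/
theorem inf_centralizer_wOf_le (hKJ : IsJComponent T K)
    (hTK : T ≤ Subgroup.normalizer (K : Set G)) (hTP : IsSylowTwoIn T (K ⊔ T)) :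
    K ⊓ Subgroup.centralizer (wOf K : Set G) ≤ T := by
  rw [inf_centralizer_wOf_eq hTP.2.1 hKJ]
  exact pCoreOf_le_of_sup hTK hTP

/-- Some element of `K` acts fixed-point-freely on `W_K`. -/
theorem exists_fpf_wOf (hT2 : IsPGroup 2 T) (hKJ : IsJComponent T K) :
    ∃ k ∈ K, ∀ w ∈ wOf K, k * w * k⁻¹ = w → w = 1 := by
  have c := cfg_of_isJComponent hT2 hKJ
  obtain ⟨d, hd, hdR⟩ := c.exists_d
  exact ⟨d, hd, fun w hw h => c.hfp d hd hdR w hw h⟩

omit [Finite G] in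
/-- `[K, T] = K`. -/
theorem commutator_eq_of_le_normalizer (hKJ : IsJComponent T K)
    (hTK : T ≤ Subgroup.normalizer (K : Set G)) : ⁅K, T⁆ = K := by
  apply le_antisymm
  · rw [Subgroup.commutator_le]
    intro k hk t ht
    rw [commutatorElement_def]
    have h1 : k * t * k⁻¹ * t⁻¹ = k * (t * k⁻¹ * t⁻¹) := by group
    rw [h1]
    exact K.mul_mem hk (conj_mem_of_mem_normalizer (hTK ht) (K.inv_mem hk))
  · have h1 : ⁅K, thompsonSubgroupOf 2 T⁆ ≤ ⁅K, T⁆ :=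
      Subgroup.commutator_mono le_rfl (Cfsg.Agent.Lib.Helper11.thompsonSubgroupOf_le 2 T)
    rwa [hKJ.2.1] at h1

/-- `K ≤ N_G(C_T(W_K))`. -/
theorem le_normalizer_inf_centralizer_left (hKJ : IsJComponent T K)
    (hTK : T ≤ Subgroup.normalizer (K : Set G)) (hTP : IsSylowTwoIn T (K ⊔ T)) :
    K ≤ Subgroup.normalizer ((T ⊓ Subgroup.centralizer (wOf K : Set G) : Subgroup G) : Set G) :=
  le_sup_left.trans (le_normalizer_inf_centralizer hKJ hTK hTP)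

omit [Finite G] in
/-- `K ≤ N_G(W_K)`. -/
theorem le_normalizer_wOf_self (K : Subgroup G) : K ≤ Subgroup.normalizer (wOf K : Set G) :=
  le_normalizer_wOf_of_le Subgroup.le_normalizer

end Cfsg.Agent.Lib.Helper54.KS12
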