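import Mathlib
import Cfsg.Agent.Lib.Helper54.KS12.SupCore
import Cfsg.Agent.Lib.Helper11.KS12.Perm
import Cfsg.Agent.Lib.Helper97.KS12.S2944Key

/-!
Kurzweil–Stellmacher chapter 12 cluster, statement S2954, maximality package (helper54).

`L ∈ jOvergroups T`, `K ≤ L` a `J(T)`-component normalized by `T`, and `|K ⊔ T| ≤ 48`
(which is what `K ⊔ T ≅ S₄` or `S₄ × C₂` gives).  Then `L = K ⊔ T`.
-/

set_option autoImplicit false

namespace Cfsg.Agent.Lib.Helper54.KS12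

open Cfsg Cfsg.Agent.Lib.Helper71.JC
open scoped commutatorElement

universe u
variable {G : Type u} [Group G] [Finite G]

/-- In a subgroup of index at most 2, the quotient of two non-members is a member. -/
theorem mul_inv_mem_of_card_le {W Q : Subgroup G} (hWQ : W ≤ Q)
    (hcard : Nat.card Q ≤ 2 * Nat.card W) {a b : G} (ha : a ∈ Q) (hb : b ∈ Q) (haW : a ∉ W)
    (hbW : b ∉ W) : a * b⁻¹ ∈ W := by
  have h1 := Cfsg.Agent.Lib.Helper2.KS12.card_mul_relIndex_of_le hWQ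
  have hWpos : 0 < Nat.card W := Nat.card_pos
  have hidx : W.relIndex Q = 1 ∨ W.relIndex Q = 2 := by
    have h2 : W.relIndex Q ≠ 0 := by
      intro h0
      rw [h0, mul_zero] at h1
      have : 0 < Nat.card Q := Nat.card_pos
      omega
    have h3 : W.relIndex Q ≤ 2 := by
      by_contra hgt
      push Not at hgt
      have : Nat.card W * 3 ≤ Nat.card W * W.relIndex Q := Nat.mul_le_mul_left _ hgt
      omega
    omega
  rcases hidx with h | h
  · exact absurd (Subgroup.relIndex_eq_one.mp h ha) haW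
  · obtain ⟨a₀, -, hx⟩ := Subgroup.relIndex_eq_two_iff.mp h
    have ha' : a * a₀ ∈ W := by
      rcases hx a ha with h' | h'
      · exact h'.1
      · exact absurd h'.1 haW
    have hb' : b * a₀ ∈ W := by
      rcases hx b hb with h' | h'
      · exact h'.1
      · exact absurd h'.1 hbW
    have e : a * b⁻¹ = (a * a₀) * (b * a₀)⁻¹ := by group
    rw [e]
    exact W.mul_mem ha' (W.inv_mem hb')

/-- A maximal (or any) 2-local `L` containing a `J(T)`-component, with `T` a Sylow 2-subgroup of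
`L`, lies in `jOvergroups T`. -/
theorem mem_jOvergroups_of_isTwoLocal (hL : IsCharacteristicTwoType G) {T L K : Subgroup G}
    (hLloc : IsTwoLocal L) (hTL : IsSylowTwoIn T L) (hK : IsJComponent T K) (hKL : K ≤ L) :
    L ∈ jOvergroups T := by
  have : Fact (Nat.Prime 2) := ⟨Nat.prime_two⟩
  refine ⟨hTL, fun hJ => ?_,
    Cfsg.Agent.Lib.Helper97.KS12.centralizer_pCoreOf_le_of_isTwoLocal hL hLloc⟩
  have c := cfg_of_isJComponent hTL.2.1 hK
  have hKQ : K ≤ pCoreOf 2 L := by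
    have h1 : ⁅K, thompsonSubgroupOf 2 T⁆ ≤ pCoreOf 2 L := by
      rw [Subgroup.commutator_le]
      intro k hk j hj
      rw [commutatorElement_def]
      exact Subgroup.mul_mem _
        (conj_mem_of_mem_normalizer (Cfsg.Agent.Lib.Helper47.le_normalizer_pCoreOf 2 L (hKL hk))
          (hJ hj)) (Subgroup.inv_mem _ (hJ hj))
    rwa [hK.2.1] at h1
  obtain ⟨d, hd, hdR⟩ := c.exists_d
  obtain ⟨hd3, -⟩ := q3 c.hRK c.hKR c.hidx hd hdR
  -- `d` is a 2-element with `d ^ 3 ∈ R`, so `d ∈ R`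
  have hK2 : IsPGroup 2 K := (Cfsg.Agent.Lib.Helper2.KS12.pCoreOf_two_isPGroup L).to_le hKQ
  obtain ⟨k, hk⟩ := hK2 ⟨d, hd⟩
  have hk' : d ^ (2 ^ k) = 1 := by simpa [Subtype.ext_iff] using hk
  apply hdR
  have hcop : Nat.Coprime 3 (2 ^ k) := Nat.Coprime.pow_right k (by norm_num)
  exact mem_of_pow_mem_coprime hcop hd3 (by rw [hk']; exact Subgroup.one_mem _)

/-- **Maximality package of S2954.**  `L = K ⊔ T` as soon as `|K ⊔ T| ≤ 48`. -/
theorem eq_sup_of_card_le (hL : IsCharacteristicTwoType G)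
    (hN : ∀ N : Subgroup G, IsTwoLocal N → Group.IsSolvable ↥N)
    (hZ : ∀ S : Sylow 2 G, Subgroup.centralizer (omegaCenterOf (S : Subgroup G) : Set G) ≤
      Subgroup.normalizer ((S : Subgroup G) : Set G))
    {T L K : Subgroup G} (hT : IsPGroup 2 T) (hT1 : T ≠ ⊥) (hLT : L ∈ jOvergroups T)
    (hK : IsJComponent T K) (hKL : K ≤ L) (hTK : T ≤ Subgroup.normalizer (K : Set G))
    (hcard : Nat.card ↥(K ⊔ T) ≤ 48) : L = K ⊔ T := by
  have : Fact (Nat.Prime 2) := ⟨Nat.prime_two⟩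
  have c := cfg_of_isJComponent hT hK
  have hTL : T ≤ L := hLT.1.1
  have hPL : K ⊔ T ≤ L := sup_le hKL hTL
  have hTP : IsSylowTwoIn T (K ⊔ T) := by
    refine ⟨le_sup_right, hT, ?_⟩
    have h1 := Subgroup.relIndex_mul_relIndex T (K ⊔ T) L le_sup_right hPL
    have hodd := hLT.1.2.2
    rw [← h1] at hodd
    exact (Nat.odd_mul.mp hodd).1
  have hQP : pCoreOf 2 (K ⊔ T) = T ⊓ Subgroup.centralizer (wOf K : Set G) :=
    pCoreOf_sup_eq hK hTK hTP
  have hidx6 := relIndex_pCoreOf_sup hK hTK hTP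
  have hcardQP : Nat.card (pCoreOf 2 (K ⊔ T)) ≤ 8 := by
    have h1 := Cfsg.Agent.Lib.Helper2.KS12.card_mul_relIndex_of_le
      (Cfsg.Agent.Lib.Helper47.pCoreOf_le 2 (K ⊔ T))
    rw [hidx6] at h1
    omega
  have hWQL : wOf K ≤ pCoreOf 2 L :=
    c.hWR.trans (Cfsg.Agent.Lib.Helper11.KS12.jcomp_pCoreOf_le hN hZ hT1 hLT hK hKL)
  have hQLT : pCoreOf 2 L ≤ T := Cfsg.Agent.Lib.Helper2.KS12.pCoreOf_le_of_isSylowTwoIn hLT.1
  have hLQL : L ≤ Subgroup.normalizer (pCoreOf 2 L : Set G) :=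
    Cfsg.Agent.Lib.Helper47.le_normalizer_pCoreOf 2 L
  have hQLP : pCoreOf 2 L ≤ pCoreOf 2 (K ⊔ T) :=
    Cfsg.Agent.Lib.Helper85.KS12.le_pCoreOf_of_normal
      (Cfsg.Agent.Lib.Helper2.KS12.pCoreOf_two_isPGroup L) (hQLT.trans le_sup_right)
      (hPL.trans hLQL)
  have hQLC : pCoreOf 2 L ≤ Subgroup.centralizer (wOf K : Set G) := by
    rw [hQP] at hQLP
    exact hQLP.trans inf_le_right
  have hcardQL : Nat.card (pCoreOf 2 L) ≤ 8 := (Subgroup.card_le_of_le hQLP).trans hcardQP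
  obtain ⟨d, hd, hdR⟩ := c.exists_d
  have hdd : d * d ∈ K := K.mul_mem hd hd
  have hddR : d * d ∉ pCoreOf 2 K := by
    intro h
    obtain ⟨hd3, -⟩ := q3 c.hRK c.hKR c.hidx hd hdR
    apply hdR
    have e : d = d ^ 3 * (d * d)⁻¹ := by group
    rw [e]
    exact Subgroup.mul_mem _ hd3 (Subgroup.inv_mem _ h)
  have horb : ∀ {u u' : G}, u ∈ wOf K → u ≠ 1 → u' ∈ wOf K → u' ≠ 1 →
      u' = u ∨ u' = d * u * d⁻¹ ∨ u' = (d * d) * u * (d * d)⁻¹ :=
    fun {u u'} hu hu1 hu' hu'1 => orbit3 c.hW4 (c.hKW hd)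
      (fun w hw h => c.hfp d hd hdR w hw h) (fun w hw h => c.hfp (d * d) hdd hddR w hw h)
      hu hu1 hu' hu'1
  -- (A) `W` is normal in `L`
  have hLW : L ≤ Subgroup.normalizer (wOf K : Set G) := by
    intro l hl
    obtain ⟨hK', hK'L⟩ :=
      Cfsg.Agent.Lib.Helper11.KS12.jcomp_conj_of_mem hL hN hZ hT hT1 hLT hK hKL hl
    have hKK' : K ≤ Subgroup.normalizer ((K.map (MulAut.conj l).toMonoidHom : Subgroup G) : Set G) :=
      Cfsg.Agent.Lib.Helper11.KS12.jcomp_normalizes hL hN hZ hT hT1 hLT hK' hK hK'L hKL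
    have hKW' : K ≤ Subgroup.normalizer
        (((wOf K).map (MulAut.conj l).toMonoidHom : Subgroup G) : Set G) := by
      have h1 := hKK'.trans (Cfsg.Agent.Lib.Helper81.KS12.normalizer_le_normalizer_wOf _)
      rwa [Cfsg.Agent.Lib.Helper81.KS12.wOf_map] at h1
    have hW'QL : (wOf K).map (MulAut.conj l).toMonoidHom ≤ pCoreOf 2 L := by
      rintro _ ⟨w, hw, rfl⟩
      exact conj_mem_of_mem_normalizer (hLQL hl) (hWQL hw)
    have hW'4 : Nat.card ((wOf K).map (MulAut.conj l).toMonoidHom) = 4 :=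
      (Subgroup.card_map_of_injective (MulAut.conj l).injective).trans c.hW4
    have hne : wOf K ⊓ (wOf K).map (MulAut.conj l).toMonoidHom ≠ ⊥ := by
      intro hbot
      have h1 := Cfsg.Agent.Lib.Helper90.card_sup_mul_card_inf_of_le_normalizer
        (A := (wOf K).map (MulAut.conj l).toMonoidHom) (B := wOf K)
        ((hW'QL.trans hQLC).trans (Subgroup.centralizer_le_normalizer _))
      rw [inf_comm, hbot, Subgroup.card_bot, mul_one, hW'4, c.hW4] at h1
      have h3 : Nat.card ((wOf K).map (MulAut.conj l).toMonoidHom ⊔ wOf K : Subgroup G) ≤ 8 :=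
        (Subgroup.card_le_of_le (sup_le hW'QL hWQL)).trans hcardQL
      omega
    obtain ⟨v, hv, hv1⟩ : ∃ v ∈ wOf K ⊓ (wOf K).map (MulAut.conj l).toMonoidHom, v ≠ 1 := by
      by_contra h
      push Not at h
      exact hne ((Subgroup.eq_bot_iff_forall _).mpr h)
    have hWW' : wOf K ≤ (wOf K).map (MulAut.conj l).toMonoidHom := by
      intro u hu
      by_cases hu1 : u = 1
      · rw [hu1]; exact Subgroup.one_mem _
      rcases horb hv.1 hv1 hu hu1 with h | h | h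
      · rw [h]; exact hv.2
      · rw [h]; exact conj_mem_of_mem_normalizer (hKW' hd) hv.2
      · rw [h]; exact conj_mem_of_mem_normalizer (hKW' hdd) hv.2
    have hEq : (wOf K).map (MulAut.conj l).toMonoidHom = wOf K :=
      (Subgroup.eq_of_le_of_card_ge hWW' (by rw [hW'4, c.hW4])).symm
    exact Cfsg.Agent.Lib.Helper11.mem_normalizer_of_map_conj_eq hEq
  -- (B) `C_L(W) ≤ O₂(L)`
  have hCL : L ⊓ Subgroup.centralizer (wOf K : Set G) ≤ pCoreOf 2 L := by
    have hsq : ∀ g ∈ L ⊓ Subgroup.centralizer (wOf K : Set G), g * g ∈ pCoreOf 2 L := by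
      rintro g ⟨hgL, hgC⟩
      apply hLT.2.2
      rw [Subgroup.mem_centralizer_iff]
      intro q hq
      have hgq : g * q * g⁻¹ ∈ pCoreOf 2 L := conj_mem_of_mem_normalizer (hLQL hgL) hq
      have hw : g * q * g⁻¹ * q⁻¹ ∈ wOf K := by
        by_cases hqW : q ∈ wOf K
        · have h1 : g * q * g⁻¹ = q := mem_centralizer_iff_conj.mp hgC q hqW
          rw [h1, mul_inv_cancel]
          exact Subgroup.one_mem _
        · have hgqW : g * q * g⁻¹ ∉ wOf K := by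
            intro h
            apply hqW
            have h1 := conj_inv_mem_of_mem_normalizer (hLW hgL) h
            have e : g⁻¹ * (g * q * g⁻¹) * g = q := by group
            rwa [e] at h1
          exact mul_inv_mem_of_card_le hWQL (by rw [c.hW4]; omega) hgq hq hgqW hqW
      have hgw : g * (g * q * g⁻¹ * q⁻¹) * g⁻¹ = g * q * g⁻¹ * q⁻¹ :=
        mem_centralizer_iff_conj.mp hgC _ hw
      have hw2 := c.hW2 _ hw
      have e : (g * g) * q * (g * g)⁻¹ =
          (g * (g * q * g⁻¹ * q⁻¹) * g⁻¹) * (g * q * g⁻¹ * q⁻¹) * q := by group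
      rw [hgw, hw2, one_mul] at e
      calc q * (g * g) = ((g * g) * q * (g * g)⁻¹) * (g * g) := by rw [e]
        _ = g * g * q := by group
    have h2 : IsPGroup 2 ↥(L ⊓ Subgroup.centralizer (wOf K : Set G)) := by
      rintro ⟨g, hg⟩
      obtain ⟨k, hk⟩ := (Cfsg.Agent.Lib.Helper2.KS12.pCoreOf_two_isPGroup L) ⟨g * g, hsq g hg⟩
      have hk' : (g * g) ^ (2 ^ k) = 1 := by simpa [Subtype.ext_iff] using hk
      refine ⟨k + 1, ?_⟩
      apply Subtype.ext
      show g ^ (2 ^ (k + 1)) = 1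
      rw [pow_succ, mul_comm, pow_mul, pow_two]
      exact hk'
    refine Cfsg.Agent.Lib.Helper85.KS12.le_pCoreOf_of_normal h2 inf_le_left (fun l hl => ?_)
    exact Cfsg.Agent.Lib.Helper2.KS12.mem_normalizer_inf (Subgroup.le_normalizer hl)
      (Cfsg.Agent.Lib.Helper47.normalizer_le_normalizer_centralizer _ (hLW hl))
  -- (C) `L ≤ K ⊔ T`
  refine le_antisymm (fun l hl => ?_) hPL
  obtain ⟨w₀, hw₀, hw₀1, hw₀c⟩ := exists_central_wOf hK hTK hTP
  have hlw : l * w₀ * l⁻¹ ∈ wOf K := conj_mem_of_mem_normalizer (hLW hl) hw₀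
  have hlw1 : l * w₀ * l⁻¹ ≠ 1 := by
    intro h
    apply hw₀1
    have e : w₀ = l⁻¹ * (l * w₀ * l⁻¹) * l := by group
    rw [e, h]; group
  obtain ⟨e, heK, he⟩ : ∃ e ∈ K, l * w₀ * l⁻¹ = e * w₀ * e⁻¹ := by
    rcases horb hw₀ hw₀1 hlw hlw1 with h | h | h
    · exact ⟨1, Subgroup.one_mem _, by rw [h]; group⟩
    · exact ⟨d, hd, h⟩
    · exact ⟨d * d, hdd, h⟩
  have hl'L : e⁻¹ * l ∈ L := L.mul_mem (L.inv_mem (hKL heK)) hl
  have hl'fix : (e⁻¹ * l) * w₀ * (e⁻¹ * l)⁻¹ = w₀ := by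
    have e1 : (e⁻¹ * l) * w₀ * (e⁻¹ * l)⁻¹ = e⁻¹ * (l * w₀ * l⁻¹) * e := by group
    rw [e1, he]; group
  suffices hl'P : e⁻¹ * l ∈ K ⊔ T by
    have e2 : l = e * (e⁻¹ * l) := by group
    rw [e2]
    exact Subgroup.mul_mem _ (le_sup_left (b := T) heK) hl'P
  by_cases hc : e⁻¹ * l ∈ Subgroup.centralizer (wOf K : Set G)
  · exact le_sup_right (a := K) (hQLT (hCL ⟨hl'L, hc⟩))
  · obtain ⟨a, haJ, haC⟩ : ∃ a ∈ thompsonSubgroupOf 2 T,
        a ∉ Subgroup.centralizer (wOf K : Set G) := by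
      by_contra h
      push Not at h
      exact c.J_not_centralizes h
    have haT : a ∈ T := Cfsg.Agent.Lib.Helper11.thompsonSubgroupOf_le 2 T haJ
    have hafix : a * w₀ * a⁻¹ = w₀ := by rw [hw₀c a haT]; group
    have hsame := fix_same c.hW4 c.hW2 (hLW hl'L) (le_normalizer_wOf_of_le hTK haT) hw₀ hw₀1
      hl'fix hafix (fun h => hc (mem_centralizer_iff_conj.mpr h))
      (fun h => haC (mem_centralizer_iff_conj.mpr h))
    have hal : a⁻¹ * (e⁻¹ * l) ∈ L ⊓ Subgroup.centralizer (wOf K : Set G) := by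
      refine ⟨L.mul_mem (L.inv_mem (hTL haT)) hl'L, mem_centralizer_iff_conj.mpr fun w hw => ?_⟩
      have h1 := hsame w hw
      calc a⁻¹ * (e⁻¹ * l) * w * (a⁻¹ * (e⁻¹ * l))⁻¹
          = a⁻¹ * ((e⁻¹ * l) * w * (e⁻¹ * l)⁻¹) * a := by group
        _ = a⁻¹ * (a * w * a⁻¹) * a := by rw [h1]
        _ = w := by group
    have e3 : e⁻¹ * l = a * (a⁻¹ * (e⁻¹ * l)) := by group
    rw [e3]
    exact Subgroup.mul_mem _ (le_sup_right (a := K) haT) (le_sup_right (a := K) (hQLT (hCL hal)))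

/-- The form used in the S2954 assembly: the unique maximal 2-local `L` over `K ⊔ T` of S2953
equals `K ⊔ T` when `|K ⊔ T| ≤ 48`. -/
theorem sup_eq_of_isMaximalTwoLocal (hL : IsCharacteristicTwoType G)
    (hN : ∀ N : Subgroup G, IsTwoLocal N → Group.IsSolvable ↥N)
    (hZ : ∀ S : Sylow 2 G, Subgroup.centralizer (omegaCenterOf (S : Subgroup G) : Set G) ≤
      Subgroup.normalizer ((S : Subgroup G) : Set G))
    {T L K : Subgroup G} (hT1 : T ≠ ⊥) (hLmax : IsMaximalTwoLocal L) (hTL : IsSylowTwoIn T L)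
    (hK : IsJComponent T K) (hPL : K ⊔ T ≤ L) (hTK : T ≤ Subgroup.normalizer (K : Set G))
    (hcard : Nat.card ↥(K ⊔ T) ≤ 48) : K ⊔ T = L :=
  (eq_sup_of_card_le hL hN hZ hTL.2.1 hT1
    (mem_jOvergroups_of_isTwoLocal hL hLmax.1 hTL hK (le_sup_left.trans hPL)) hK
    (le_sup_left.trans hPL) hTK hcard).symm

/-- `K ⊔ T` is a maximal 2-local subgroup with Sylow 2-subgroup `T`. -/
theorem isMaximalTwoLocal_sup (hL : IsCharacteristicTwoType G)
    (hN : ∀ N : Subgroup G, IsTwoLocal N → Group.IsSolvable ↥N)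
    (hZ : ∀ S : Sylow 2 G, Subgroup.centralizer (omegaCenterOf (S : Subgroup G) : Set G) ≤
      Subgroup.normalizer ((S : Subgroup G) : Set G))
    {T L K : Subgroup G} (hT1 : T ≠ ⊥) (hLmax : IsMaximalTwoLocal L) (hTL : IsSylowTwoIn T L)
    (hK : IsJComponent T K) (hPL : K ⊔ T ≤ L) (hTK : T ≤ Subgroup.normalizer (K : Set G))
    (hcard : Nat.card ↥(K ⊔ T) ≤ 48) :
    IsMaximalTwoLocal (K ⊔ T) ∧ IsSylowTwoIn T (K ⊔ T) := by
  rw [sup_eq_of_isMaximalTwoLocal hL hN hZ hT1 hLmax hTL hK hPL hTK hcard]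
  exact ⟨hLmax, hTL⟩

/-- Package (ZL) of S2954 in the exact shape of helper23's plan (hypothesis `|T| ≤ 16`). -/
theorem max_eq_sup (hL : IsCharacteristicTwoType G)
    (hN : ∀ N : Subgroup G, IsTwoLocal N → Group.IsSolvable ↥N)
    (hZ : ∀ S : Sylow 2 G, Subgroup.centralizer (omegaCenterOf (S : Subgroup G) : Set G) ≤
      Subgroup.normalizer ((S : Subgroup G) : Set G))
    {T K L : Subgroup G} (hT2 : IsPGroup 2 ↥T) (hT1 : T ≠ ⊥) (hKJ : IsJComponent T K)
    (hTK : T ≤ Subgroup.normalizer (K : Set G)) (hLmax : IsMaximalTwoLocal L) (hPL : K ⊔ T ≤ L)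
    (hTL : IsSylowTwoIn T L) (hcard : Nat.card ↥T ≤ 16) : L = K ⊔ T := by
  have hTP : IsSylowTwoIn T (K ⊔ T) := by
    refine ⟨le_sup_right, hT2, ?_⟩
    have h1 := Subgroup.relIndex_mul_relIndex T (K ⊔ T) L le_sup_right hPL
    have hodd := hTL.2.2
    rw [← h1] at hodd
    exact (Nat.odd_mul.mp hodd).1
  have h3 := relIndex_sup_eq_three hKJ hTK hTP
  have h4 := Cfsg.Agent.Lib.Helper2.KS12.card_mul_relIndex_of_le (le_sup_right : T ≤ K ⊔ T)
  rw [h3] at h4
  exact eq_sup_of_card_le hL hN hZ hT2 hT1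
    (mem_jOvergroups_of_isTwoLocal hL hLmax.1 hTL hKJ (le_sup_left.trans hPL)) hKJ
    (le_sup_left.trans hPL) hTK (by omega)

end Cfsg.Agent.Lib.Helper54.KS12
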