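import Mathlib
import Cfsg.Agent.Lib.Helper54.KS12.S2944Core
import Cfsg.Agent.Lib.Helper97.KS12.S2948Core
import Cfsg.Agent.Lib.Helper16.BG.NilHall

/-!
Kurzweil–Stellmacher chapter 12 cluster, statement S2944 (helper54), part 2:
for `K ∈ jComponentsZero T` and a conjugate `T^g` with `J(T^g) ≤ N_G(W_K)`, `K` is a
`J(T^g)`-component.
-/

set_option autoImplicit false

namespace Cfsg.Agent.Lib.Helper54.KS12

open scoped commutatorElement
open Cfsg Cfsg.Agent.Lib.Helper71.JC Cfsg.Agent.Lib.Helper2.KS12 Cfsg.Agent.Lib.Helper11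

universe u
variable {G : Type u} [Group G]

/-- Transport of a `J(T)`-component along an automorphism. -/
theorem isJComponent_map_gen {T K : Subgroup G} (hK : IsJComponent T K) (φ : G ≃* G) :
    IsJComponent (T.map φ.toMonoidHom) (K.map φ.toMonoidHom) := by
  obtain ⟨h1, h2, h3, h4, h5, h6⟩ := hK
  have hinj : Function.Injective φ.toMonoidHom := φ.injective
  have hJmap : thompsonSubgroupOf 2 (T.map φ.toMonoidHom) =
      (thompsonSubgroupOf 2 T).map φ.toMonoidHom :=
    thompsonSubgroupOf_map 2 φ.toMonoidHom hinj T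
  refine ⟨?_, ?_, ?_, ?_, ?_, ?_⟩
  · have hset : {g : G | g ∈ K.map φ.toMonoidHom ∧ Odd (orderOf g)} =
        φ.toMonoidHom '' {g : G | g ∈ K ∧ Odd (orderOf g)} := by
      ext y
      constructor
      · rintro ⟨⟨x, hx, rfl⟩, hodd⟩
        refine ⟨x, ⟨hx, ?_⟩, rfl⟩
        have : orderOf (φ.toMonoidHom x) = orderOf x := orderOf_injective φ.toMonoidHom hinj x
        rwa [this] at hodd
      · rintro ⟨x, ⟨hx, hodd⟩, rfl⟩
        refine ⟨⟨x, hx, rfl⟩, ?_⟩
        have : orderOf (φ.toMonoidHom x) = orderOf x := orderOf_injective φ.toMonoidHom hinj x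
        rwa [this]
    rw [hset, ← MonoidHom.map_closure, h1]
  · rw [hJmap, ← Subgroup.map_commutator, h2]
  · rw [Cfsg.Agent.Lib.Helper46.pCoreOf_map, Subgroup.relIndex_map_map_of_injective _ _ hinj]
    exact h3
  · intro S hS hJS
    rw [hJmap] at hS hJS ⊢
    obtain ⟨hS1, hS2, hS3⟩ := hS
    have hSS : (S.map φ.symm.toMonoidHom).map φ.toMonoidHom = S := by
      rw [Subgroup.map_map]
      have : φ.toMonoidHom.comp φ.symm.toMonoidHom = MonoidHom.id G := by
        ext x; simp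
      rw [this, Subgroup.map_id]
    have hsup : (K ⊔ thompsonSubgroupOf 2 T).map φ.toMonoidHom =
        K.map φ.toMonoidHom ⊔ (thompsonSubgroupOf 2 T).map φ.toMonoidHom :=
      Subgroup.map_sup _ _ _
    have hS' : IsSylowTwoIn (S.map φ.symm.toMonoidHom) (K ⊔ thompsonSubgroupOf 2 T) := by
      refine ⟨?_, hS2.map _, ?_⟩
      · rw [← Subgroup.map_le_map_iff_of_injective hinj, hSS, hsup]
        exact hS1
      · rw [← Subgroup.relIndex_map_map_of_injective _ _ hinj, hSS, hsup]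
        exact hS3
    have hJS' : thompsonSubgroupOf 2 T ≤ S.map φ.symm.toMonoidHom := by
      rw [← Subgroup.map_le_map_iff_of_injective hinj, hSS]
      exact hJS
    have h7 := h4 _ hS' hJS'
    rw [← hSS, thompsonSubgroupOf_map 2 φ.toMonoidHom hinj, h7]
  · rw [Cfsg.Agent.Lib.Helper81.KS12.wOf_map, Subgroup.card_map_of_injective hinj]
    exact h5
  · rw [Cfsg.Agent.Lib.Helper81.KS12.wOf_map]
    rintro _ ⟨w, hw, rfl⟩
    have := h6 w hw
    have h8 := congrArg φ.toMonoidHom this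
    simpa using h8

/-- The order of a largest elementary abelian 2-subgroup is invariant under automorphisms. -/
theorem maxElemAbelianOrder_map [Finite G] (T : Subgroup G) (φ : G ≃* G) :
    maxElemAbelianOrder (T.map φ.toMonoidHom) = maxElemAbelianOrder T := by
  obtain ⟨A, hA⟩ := maxElemAbIn_nonempty 2 T
  have hA' : A.map φ.toMonoidHom ∈ maxElemAbIn 2 (T.map φ.toMonoidHom) := by
    rw [maxElemAbIn_map 2 φ.toMonoidHom φ.injective]
    exact ⟨A, hA, rfl⟩
  rw [Cfsg.Agent.Lib.Helper97.KS12.maxElemAbelianOrder_eq hA',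
    Cfsg.Agent.Lib.Helper97.KS12.maxElemAbelianOrder_eq hA,
    Subgroup.card_map_of_injective φ.injective]

/-- **S2944, part 2.** -/
theorem isJComponent_conj_of_le [Finite G] (hL : Cfsg.IsCharacteristicTwoType G)
    (hN : ∀ N : Subgroup G, Cfsg.IsTwoLocal N → Group.IsSolvable ↥N)
    (hZ : ∀ S : Sylow 2 G, Subgroup.centralizer (Cfsg.omegaCenterOf (S : Subgroup G) : Set G) ≤
      Subgroup.normalizer ((S : Subgroup G) : Set G))
    (T : Subgroup G) (hT : IsPGroup 2 ↥T) (K : Subgroup G)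
    (hK : K ∈ Cfsg.jComponentsZero T) (g : G)
    (hg : Cfsg.thompsonSubgroupOf 2 (T.map (MulAut.conj g).toMonoidHom) ≤
      Subgroup.normalizer (Cfsg.wOf K : Set G)) :
    Cfsg.IsJComponent (T.map (MulAut.conj g).toMonoidHom) K := by
  have : Fact (Nat.Prime 2) := ⟨Nat.prime_two⟩
  have hNK := normalizer_wOf_le hL hN hZ T hT K hK
  obtain ⟨hKJ, hK0⟩ := hK
  have c := cfg_of_isJComponent hT hKJ
  obtain ⟨S, hS, hJS⟩ := Cfsg.Agent.Lib.Helper85.KS12.exists_isSylowTwoIn_ge c.hJ2 c.hJW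
  have hJeq : thompsonSubgroupOf 2 S = thompsonSubgroupOf 2 T := hK0 S hJS hS
  obtain ⟨T', hT'⟩ : ∃ T' : Subgroup G, T' = T.map (MulAut.conj g).toMonoidHom := ⟨_, rfl⟩
  rw [← hT'] at hg ⊢
  have hT'2 : IsPGroup 2 T' := by rw [hT']; exact hT.map _
  have hJ'2 : IsPGroup 2 (thompsonSubgroupOf 2 T') := hT'2.to_le (thompsonSubgroupOf_le 2 T')
  have hsyl : ¬ 2 ∣ S.relIndex (Subgroup.normalizer (wOf K : Set G)) := fun h2 =>
    (Nat.not_even_iff_odd.mpr hS.2.2) (even_iff_two_dvd.mpr h2)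
  obtain ⟨d, hd, hdJ⟩ := Cfsg.Agent.Lib.Helper16.BG.rel_sylow_conj
    (Subgroup.normalizer (wOf K : Set G)) (thompsonSubgroupOf 2 T') S hg hJ'2 hS.2.1 hsyl
  have hJ₂ : thompsonSubgroupOf 2 (T'.map (MulAut.conj d).toMonoidHom) =
      (thompsonSubgroupOf 2 T').map (MulAut.conj d).toMonoidHom :=
    thompsonSubgroupOf_map 2 _ (MulAut.conj d).injective T'
  have hJ₂S : thompsonSubgroupOf 2 (T'.map (MulAut.conj d).toMonoidHom) ≤ S := by
    rw [hJ₂]
    rintro _ ⟨v, hv, rfl⟩
    exact hdJ v hv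
  have hm1 : maxElemAbelianOrder (T'.map (MulAut.conj d).toMonoidHom) = maxElemAbelianOrder T := by
    rw [maxElemAbelianOrder_map, hT', maxElemAbelianOrder_map]
  have hm2 : maxElemAbelianOrder S = maxElemAbelianOrder T :=
    le_antisymm
      (Cfsg.Agent.Lib.Helper97.KS12.maxElemAbelianOrder_le_of_thompson_le
        (by rw [hJeq]; exact thompsonSubgroupOf_le 2 T))
      (Cfsg.Agent.Lib.Helper97.KS12.maxElemAbelianOrder_le_of_thompson_le hJS)
  have hle : thompsonSubgroupOf 2 (T'.map (MulAut.conj d).toMonoidHom) ≤ thompsonSubgroupOf 2 S :=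
    Cfsg.Agent.Lib.Helper97.KS12.thompson_le_thompson_of_le hJ₂S (by rw [hm1, hm2])
  have hcard : Nat.card (thompsonSubgroupOf 2 S) ≤
      Nat.card (thompsonSubgroupOf 2 (T'.map (MulAut.conj d).toMonoidHom)) := by
    rw [hJ₂, Subgroup.card_map_of_injective (MulAut.conj d).injective, hT',
      thompsonSubgroupOf_map 2 _ (MulAut.conj g).injective T,
      Subgroup.card_map_of_injective (MulAut.conj g).injective, hJeq]
  have hJ₂eq : thompsonSubgroupOf 2 (T'.map (MulAut.conj d).toMonoidHom) =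
      thompsonSubgroupOf 2 S := Subgroup.eq_of_le_of_card_ge hle hcard
  have hK₂ : IsJComponent (T'.map (MulAut.conj d).toMonoidHom) K :=
    Cfsg.Agent.Lib.Helper85.KS12.isJComponent_congr (hJ₂eq.trans hJeq) hKJ
  have hK₃ := isJComponent_map_gen hK₂ (MulAut.conj d⁻¹)
  have hT₃ : (T'.map (MulAut.conj d).toMonoidHom).map (MulAut.conj d⁻¹).toMonoidHom = T' := by
    rw [Subgroup.map_map]
    have : (MulAut.conj d⁻¹).toMonoidHom.comp (MulAut.conj d).toMonoidHom = MonoidHom.id G := by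
      ext x; simp [MulAut.conj_apply, mul_assoc]
    rw [this, Subgroup.map_id]
  have hK₃' : K.map (MulAut.conj d⁻¹).toMonoidHom = K :=
    map_conj_eq_of_mem_normalizer (hNK (Subgroup.inv_mem _ hd))
  rw [hT₃, hK₃'] at hK₃
  exact hK₃

end Cfsg.Agent.Lib.Helper54.KS12
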